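import Cfsg.Agent.Lib.LocalEvenB.SelfCentralEight.Sections
import Cfsg.Agent.Lib.LocalEvenB.SelfCentralEight.Conj
import Cfsg.Agent.Lib.TwoGroups.MacWilliams.Central
import Cfsg.Agent.Lib.TwoGroups.Classify
import Cfsg.Agent.S0501

/-!
# Two-groups without a normal elementary abelian subgroup of order eight, with odd automorphisms
-/

set_option autoImplicit false

namespace CfsgLib.LocalEvenB.NoNormalEight

open Subgroup
open CfsgLib.LocalEvenB.SelfCentralEight.Sections CfsgLib.LocalEvenB.SelfCentralEight.Conj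

variable {X : Type*} [Group X] [Finite X]

/-- Every normal elementary abelian subgroup has order at most four. -/
def Small (X : Type*) [Group X] : Prop :=
  ∀ B : Subgroup X, B.Normal → IsMulCommutative B → (∀ b ∈ B, b ^ 2 = 1) → Nat.card B ≤ 4

/-- The automorphisms in `A` leave no proper subgroup containing all `x⁻¹ φ(x)`. -/
def Gen (A : Subgroup (MulAut X)) : Prop :=
  Subgroup.closure {g : X | ∃ φ ∈ A, ∃ x : X, g = x⁻¹ * φ x} = ⊤

omit [Finite X] in
theorem mem_of_gen {A : Subgroup (MulAut X)} (hg : Gen A) {N : Subgroup X}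
    (h : ∀ φ ∈ A, ∀ x : X, x⁻¹ * φ x ∈ N) (x : X) : x ∈ N := by
  have h1 : (⊤ : Subgroup X) ≤ N := by
    rw [← hg, Subgroup.closure_le]
    rintro g ⟨φ, hφ, y, rfl⟩
    exact h φ hφ y
  exact h1 (mem_top x)

/-- `e` in `V Z` for a central four-group `V` when `V` and `e` generate a normal subgroup. -/
theorem mem_of_involution (hS : Small X) {V : Subgroup X} (hV4 : Nat.card V = 4)
    (hVc : ∀ v ∈ V, ∀ g : X, g * v = v * g) (hV2 : ∀ v ∈ V, v * v = 1) {e : X} (he : e * e = 1)
    (hc : ∀ g : X, g * e * g⁻¹ * e⁻¹ ∈ V) : e ∈ V := by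
  by_contra heV
  haveI : V.Normal := ⟨fun v hv g => by rwa [hVc v hv g, mul_inv_cancel_right]⟩
  have hee : e * e ∈ V := by rw [he]; exact V.one_mem
  have hel : ∀ x ∈ V ⊔ Subgroup.zpowers e, x ∈ V ∨ ∃ n ∈ V, x = n * e :=
    fun x hx => step_mem hee hx
  have hcard := step_card hee heV
  have h := hS _ (step_normal hee hc) ⟨⟨fun a b => Subtype.ext (show (a : X) * b = b * a from ?_)⟩⟩ ?_
  · omega
  · rcases hel a a.2 with ha | ⟨n, hn, ha⟩ <;> rcases hel b b.2 with hb | ⟨m, hm, hb⟩
    · exact (hVc _ ha (b : X)).symm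
    · exact (hVc _ ha (b : X)).symm
    · exact hVc _ hb (a : X)
    · rw [ha, hb]
      calc n * e * (m * e) = n * (e * m) * e := by group
        _ = (n * m) * (e * e) := by rw [hVc m hm e]; group
        _ = (m * n) * (e * e) := by rw [hVc m hm n]
        _ = m * (n * e) * e := by group
        _ = m * (e * n) * e := by rw [hVc n hn e]
        _ = _ := by group
  · intro x hx
    rw [pow_two]
    rcases hel x hx with h | ⟨n, hn, rfl⟩
    · exact hV2 x h
    · calc n * e * (n * e) = n * (e * n) * e := by group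
        _ = (n * n) * (e * e) := by rw [hVc n hn e]; group
        _ = 1 := by rw [hV2 n hn, he, one_mul]

/-- The solutions of `t * t = 1` in an abelian subgroup. -/
def sqOne (T : Subgroup X) (hT : ∀ a ∈ T, ∀ b ∈ T, a * b = b * a) : Subgroup X where
  carrier := {t | t ∈ T ∧ t * t = 1}
  one_mem' := ⟨T.one_mem, one_mul 1⟩
  mul_mem' {a b} ha hb := ⟨T.mul_mem ha.1 hb.1, by
    rw [mul_assoc, ← mul_assoc b, hT b hb.1 a ha.1, mul_assoc, hb.2, mul_one, ha.2]⟩
  inv_mem' {a} ha := ⟨T.inv_mem ha.1, by rw [← mul_inv_rev, ha.2, inv_one]⟩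

omit [Finite X] in
theorem mem_sqOne {T : Subgroup X} {hT : ∀ a ∈ T, ∀ b ∈ T, a * b = b * a} {t : X} :
    t ∈ sqOne T hT ↔ t ∈ T ∧ t * t = 1 := Iff.rfl

omit [Finite X] in
theorem sqOne_normal {T : Subgroup X} (hn : T.Normal) (hT : ∀ a ∈ T, ∀ b ∈ T, a * b = b * a) :
    (sqOne T hT).Normal := ⟨fun t ht g => ⟨hn.conj_mem t ht.1 g, by
  rw [show g * t * g⁻¹ * (g * t * g⁻¹) = g * (t * t) * g⁻¹ by group, ht.2, mul_one, mul_inv_cancel]⟩⟩

theorem card_sqOne (hS : Small X) {T : Subgroup X} (hn : T.Normal)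
    (hT : ∀ a ∈ T, ∀ b ∈ T, a * b = b * a) : Nat.card (sqOne T hT) ≤ 4 :=
  hS _ (sqOne_normal hn hT) ⟨⟨fun a b => Subtype.ext (hT _ a.2.1 _ b.2.1)⟩⟩
    fun b hb => by rw [pow_two]; exact hb.2

/-- In a normal abelian subgroup containing a four-group, all involutions lie in the four-group. -/
theorem sq_one_mem (hS : Small X) {V T : Subgroup X} (hV4 : Nat.card V = 4)
    (hV2 : ∀ v ∈ V, v * v = 1) (hVT : V ≤ T) (hn : T.Normal)
    (hT : ∀ a ∈ T, ∀ b ∈ T, a * b = b * a) {t : X} (ht : t ∈ T) (ht2 : t * t = 1) : t ∈ V := by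
  have h : V = sqOne T hT := eq_of_le_of_card_ge (fun v hv => ⟨hVT hv, hV2 v hv⟩)
    (hV4 ▸ card_sqOne hS hn hT)
  rw [h]; exact ⟨ht, ht2⟩

omit [Finite X] in
theorem pow_apply_succ (φ : MulAut X) (n : ℕ) (x : X) : (φ ^ (n + 1)) x = φ ((φ ^ n) x) := by
  rw [pow_succ']; rfl

/-- An automorphism of odd order interchanging two elements fixes them. -/
theorem fixed_of_swap {φ : MulAut X} (hφ : Odd (orderOf φ)) {x : X} (h : φ (φ x) = x) : φ x = x := by
  have hev : ∀ n : ℕ, (φ ^ (2 * n)) x = x := by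
    intro n
    induction n with
    | zero => simp
    | succ n ih => rw [show 2 * (n + 1) = 2 * n + 1 + 1 by ring, pow_apply_succ, pow_apply_succ, ih, h]
  obtain ⟨m, hm⟩ := hφ
  have h1 := pow_apply_succ φ (2 * m) x
  rw [← hm, pow_orderOf_eq_one, hev] at h1
  exact h1.symm

/-- An automorphism of odd order fixing the involutions of an invariant abelian `2`-group fixes it. -/
theorem fix_of_fix_invols (h2 : IsPGroup 2 X) {φ : MulAut X} (hφ : Odd (orderOf φ)) {U : Subgroup X}
    (hUc : ∀ a ∈ U, ∀ b ∈ U, a * b = b * a) (hinv : ∀ u ∈ U, φ u ∈ U)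
    (h : ∀ u ∈ U, u * u = 1 → φ u = u) : ∀ u ∈ U, φ u = u := by
  suffices ∀ k : ℕ, ∀ u ∈ U, u ^ 2 ^ k = 1 → φ u = u by
    intro u hu
    obtain ⟨k, hk⟩ := h2 u
    exact this k u hu hk
  intro k
  induction k with
  | zero => intro u hu hk; rw [pow_zero, pow_one] at hk; rw [hk, map_one]
  | succ k ih =>
    intro u hu hk
    have h1 : φ (u * u) = u * u := ih _ (U.mul_mem hu hu) (by
      rw [← pow_two, ← pow_mul, ← pow_succ']; exact hk)
    set t := u⁻¹ * φ u with htdef
    have htU : t ∈ U := U.mul_mem (U.inv_mem hu) (hinv u hu)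
    have ht2 : t * t = 1 := by
      calc t * t = u⁻¹ * (φ u * u⁻¹) * φ u := by rw [htdef]; group
        _ = u⁻¹ * (u⁻¹ * φ u) * φ u := by rw [hUc _ (hinv u hu) _ (U.inv_mem hu)]
        _ = (u * u)⁻¹ * φ (u * u) := by rw [map_mul]; group
        _ = 1 := by rw [h1, inv_mul_cancel]
    have hφt := h t htU ht2
    have hφu : φ u = u * t := by rw [htdef, mul_inv_cancel_left]
    have hn : ∀ n : ℕ, (φ ^ n) u = u * t ^ n := by
      intro n
      induction n with
      | zero => simp
      | succ n ihn => rw [pow_apply_succ, ihn, map_mul, hφu, map_pow, hφt, mul_assoc, ← pow_succ']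
    have h3 := hn (orderOf φ)
    obtain ⟨m, hm⟩ := hφ
    rw [pow_orderOf_eq_one, hm, pow_succ, pow_mul, pow_two, ht2, one_pow, one_mul] at h3
    rw [hφu, ← h3]
    rfl

/-- An automorphism of odd order fixing an involution of a small elementary group fixes all of it. -/
theorem fix_small {φ : MulAut X} (hφ : Odd (orderOf φ)) {V : Subgroup X} (hV : Nat.card V ≤ 4)
    (hinv : ∀ v ∈ V, φ v ∈ V) (hV2 : ∀ v ∈ V, v * v = 1) {z : X} (hz : z ∈ V) (hz1 : z ≠ 1)
    (hzf : φ z = z) : ∀ v ∈ V, φ v = v := by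
  classical
  intro w hw
  by_contra hne
  have hw1 : w ≠ 1 := fun e => hne (by rw [e, map_one])
  have hwz : w ≠ z := fun e => hne (by rw [e, hzf])
  have hzz := hV2 z hz
  have hφ1 : φ w ≠ 1 := fun e => hw1 (φ.injective (e.trans (map_one φ).symm))
  have hφz : φ w ≠ z := fun e => hwz (φ.injective (e.trans hzf.symm))
  have hφzw : φ w ≠ z * w := fun e => hne (fixed_of_swap hφ (by
    rw [e, map_mul, hzf, e, ← mul_assoc, hzz, one_mul]))
  have hsub : ({1, z, w, z * w, φ w} : Finset X) ⊆ (Set.toFinite (V : Set X)).toFinset := by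
    intro x hx
    simp only [Set.Finite.mem_toFinset, SetLike.mem_coe]
    simp only [Finset.mem_insert, Finset.mem_singleton] at hx
    rcases hx with rfl | rfl | rfl | rfl | rfl
    exacts [V.one_mem, hz, hw, V.mul_mem hz hw, hinv w hw]
  have hzw1 : z * w ≠ 1 := fun e => hwz ((mul_left_cancel (e.trans hzz.symm)))
  have hcard := Finset.card_le_card hsub
  rw [← Set.ncard_eq_toFinset_card, ← Nat.card_coe_set_eq] at hcard
  rw [Finset.card_insert_of_notMem, Finset.card_insert_of_notMem, Finset.card_insert_of_notMem,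
    Finset.card_insert_of_notMem, Finset.card_singleton] at hcard
  · exact absurd (hcard.trans hV) (by norm_num)
  · simp only [Finset.mem_singleton]; exact Ne.symm hφzw
  · simp only [Finset.mem_insert, Finset.mem_singleton]
    push_neg
    exact ⟨fun e => hz1 (right_eq_mul.mp e), Ne.symm hne⟩
  · simp only [Finset.mem_insert, Finset.mem_singleton]
    push_neg
    exact ⟨Ne.symm hwz, fun e => hw1 (left_eq_mul.mp e), Ne.symm hφz⟩
  · simp only [Finset.mem_insert, Finset.mem_singleton]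
    push_neg
    exact ⟨Ne.symm hz1, Ne.symm hw1, Ne.symm hzw1, Ne.symm hφ1⟩

theorem odd_order {A : Subgroup (MulAut X)} (hA : Odd (Nat.card A)) {φ : MulAut X} (hφ : φ ∈ A) :
    Odd (orderOf φ) :=
  hA.of_dvd_nat (Subgroup.orderOf_dvd_natCard A hφ)

omit [Finite X] in
theorem map_frattini (φ : MulAut X) {x : X} (hx : x ∈ frattini X) : φ x ∈ frattini X :=
  (Subgroup.characteristic_iff_le_comap.mp inferInstance φ) hx

theorem sq_mem_frattini (h2 : IsPGroup 2 X) (x : X) : x * x ∈ frattini X := by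
  haveI : Fact (Nat.Prime 2) := ⟨Nat.prime_two⟩
  rw [← pow_two]; exact CfsgLib.PGroup.Frattini.pow_mem_frattini h2 x

theorem comm_mem_frattini (h2 : IsPGroup 2 X) (x y : X) : x * y * x⁻¹ * y⁻¹ ∈ frattini X := by
  haveI : Fact (Nat.Prime 2) := ⟨Nat.prime_two⟩
  have := CfsgLib.PGroup.Frattini.commutatorElement_mem_frattini h2 x y
  rwa [commutatorElement_def] at this

theorem frattini_le_of_squares {N : Subgroup X} (hN : N.Normal) (h : ∀ x : X, x * x ∈ N) :
    frattini X ≤ N := by
  haveI := hN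
  exact CfsgLib.TwoGroups.MacWilliams.frattini_le_of_sq fun a => by rw [pow_two]; exact h a

theorem frattini_ne_bot (h2 : IsPGroup 2 X) (hna : ¬ IsMulCommutative X) : frattini X ≠ ⊥ := by
  intro h
  refine hna ⟨⟨fun a b => ?_⟩⟩
  have := comm_mem_frattini h2 a b
  rw [h, Subgroup.mem_bot, mul_inv_eq_one, mul_inv_eq_iff_eq_mul] at this
  exact this

/-- No nontrivial coset of the Frattini subgroup is fixed by `A`. -/
theorem mem_frattini_of_fixed (h2 : IsPGroup 2 X) {A : Subgroup (MulAut X)} (hA : Odd (Nat.card A))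
    (hg : Gen A) {x : X} (h : ∀ φ ∈ A, x⁻¹ * φ x ∈ frattini X) : x ∈ frattini X := by
  classical
  letI : Fintype A := Fintype.ofFinite _
  letI : CommGroup (X ⧸ frattini X) := { (inferInstance : Group (X ⧸ frattini X)) with
    mul_comm := fun a b => by
      induction a using QuotientGroup.induction_on with
      | H a => induction b using QuotientGroup.induction_on with
        | H b =>
          rw [← QuotientGroup.mk_mul, ← QuotientGroup.mk_mul, QuotientGroup.eq]
          have := comm_mem_frattini h2 b⁻¹ a⁻¹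
          simpa [mul_assoc] using this }
  let ν : X →* X ⧸ frattini X :=
    { toFun := fun g => ∏ φ : A, ((φ.1 g : X) : X ⧸ frattini X)
      map_one' := by simp
      map_mul' := fun g g' => by simp [Finset.prod_mul_distrib] }
  have hν : ∀ g, ν g = 1 := by
    refine fun g => MonoidHom.mem_ker.mp (mem_of_gen hg (N := ν.ker) (fun ψ hψ y => ?_) g)
    rw [MonoidHom.mem_ker, map_mul, map_inv, inv_mul_eq_one]
    exact (Fintype.prod_equiv (Equiv.mulRight (⟨ψ, hψ⟩ : A))
      (fun φ : A => ((φ.1 (ψ y) : X) : X ⧸ frattini X)) (fun φ : A => ((φ.1 y : X) : X ⧸ frattini X))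
      fun φ => rfl).symm
  have h1 : ν x = ((x : X ⧸ frattini X)) ^ Fintype.card A := by
    show ∏ φ : A, ((φ.1 x : X) : X ⧸ frattini X) = _
    rw [Finset.prod_congr rfl (g := fun _ => (x : X ⧸ frattini X)) (fun φ _ => ?_), Finset.prod_const,
      Finset.card_univ]
    exact (QuotientGroup.eq.mpr (h φ.1 φ.2)).symm
  rw [hν] at h1
  obtain ⟨m, hm⟩ := hA
  rw [← Nat.card_eq_fintype_card, hm, pow_succ, pow_mul, pow_two, ← QuotientGroup.mk_mul,
    (QuotientGroup.eq_one_iff _).mpr (sq_mem_frattini h2 x), one_pow, one_mul] at h1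
  exact (QuotientGroup.eq_one_iff x).mp h1.symm

/-- The Frattini quotient has order at most sixteen. -/
theorem index_frattini_le (h2 : IsPGroup 2 X) (hS : Small X) : (frattini X).index ≤ 16 := by
  have hsec := Cfsg.Agent.S0501.result h2 hS
  haveI : ((frattini X).subgroupOf ⊤).Normal := Subgroup.Normal.subgroupOf inferInstance _
  have hq : ∀ q : (⊤ : Subgroup X) ⧸ (frattini X).subgroupOf ⊤, q ^ 2 = 1 := fun q => by
    induction q using QuotientGroup.induction_on with
    | H y =>
      rw [pow_two, ← QuotientGroup.mk_mul, QuotientGroup.eq_one_iff, Subgroup.mem_subgroupOf]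
      exact sq_mem_frattini h2 _
  have h := hsec ⊤ ((frattini X).subgroupOf ⊤) ⊤ ⟨⟨fun a b => ?_⟩⟩ fun q _ => hq q
  · rw [Subgroup.card_top] at h
    have e : Nat.card ((⊤ : Subgroup X) ⧸ (frattini X).subgroupOf ⊤) = (frattini X).index := by
      rw [← Subgroup.index_eq_card, ← Subgroup.relIndex, Subgroup.relIndex_top_right]
    rw [e] at h; exact h
  · refine Subtype.ext ?_
    show a.1 * b.1 = b.1 * a.1
    have hi : ∀ q : (⊤ : Subgroup X) ⧸ (frattini X).subgroupOf ⊤, q⁻¹ = q := fun q =>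
      inv_eq_of_mul_eq_one_right (by rw [← pow_two, hq q])
    rw [← hi (a.1 * b.1), mul_inv_rev, hi, hi]

/-- A `2`-group without a self-centralising normal abelian subgroup containing an elementary group of
order eight has no normal elementary abelian subgroup of order eight. -/
theorem small_of_no_scn (h2 : IsPGroup 2 X)
    (hscn : ¬ ∃ A : Subgroup X, A.Normal ∧ Subgroup.centralizer (A : Set X) = A ∧
      ∃ E : Subgroup X, E ≤ A ∧ Cfsg.IsElementaryAbelian 2 E ∧ Nat.card E = 8) : Small X := by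
  haveI : Fact (Nat.Prime 2) := ⟨Nat.prime_two⟩
  intro B hBn hBc hB2
  by_contra hB
  obtain ⟨A, ⟨hBA, hAn, hAc⟩, hmax⟩ := Set.Finite.exists_maximal
    (Set.toFinite {A : Subgroup X | B ≤ A ∧ A.Normal ∧ A ≤ Subgroup.centralizer (A : Set X)})
    ⟨B, le_rfl, hBn, fun a ha => mem_centralizer_iff.mpr fun b hb =>
      congrArg Subtype.val (hBc.is_comm.comm ⟨b, hb⟩ ⟨a, ha⟩)⟩
  haveI := hAn
  have hsc : Subgroup.centralizer (A : Set X) = A := by
    refine (hAc.antisymm ?_).symm
    by_contra hle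
    haveI : (Subgroup.centralizer (A : Set X)).Normal := Subgroup.normal_centralizer
    obtain ⟨x, hxC, hxA, hxs, hxc⟩ := exists_step h2 (lt_of_le_of_ne hAc (fun e => hle e.ge))
    have hnew : A ⊔ Subgroup.zpowers x ∈
        {A : Subgroup X | B ≤ A ∧ A.Normal ∧ A ≤ Subgroup.centralizer (A : Set X)} := by
      refine ⟨hBA.trans le_sup_left, step_normal hxs hxc, sup_le (fun a ha => ?_) ?_⟩
      · refine mem_centralizer_iff.mpr fun u hu => ?_
        rcases step_mem hxs hu with h | ⟨n, hn, rfl⟩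
        · exact mem_centralizer_iff.mp (hAc ha) u h
        · rw [mul_assoc, ← mem_centralizer_iff.mp hxC a ha, ← mul_assoc,
            mem_centralizer_iff.mp (hAc ha) n hn, mul_assoc]
      · rw [Subgroup.zpowers_le]
        refine mem_centralizer_iff.mpr fun u hu => ?_
        rcases step_mem hxs hu with h | ⟨n, hn, rfl⟩
        · exact mem_centralizer_iff.mp hxC u h
        · rw [← mul_assoc, ← mem_centralizer_iff.mp hxC n hn, mul_assoc]
    exact hxA (hmax hnew le_sup_left (mem_sup_right (mem_zpowers x)))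
  obtain ⟨n, hn⟩ := (IsPGroup.iff_card.mp (h2.to_subgroup B))
  have h3 : 2 ^ 3 ≤ Nat.card B := by
    rw [hn] at hB ⊢
    refine Nat.pow_le_pow_right (by norm_num) ?_
    by_contra h3
    exact hB ((Nat.pow_le_pow_right (by norm_num) (show n ≤ 2 by omega)).trans (by norm_num))
  obtain ⟨K, hK⟩ := Sylow.exists_subgroup_card_pow_prime 2 (G := B) (n := 3) (by
    rw [hn] at h3 ⊢
    exact pow_dvd_pow 2 ((Nat.pow_le_pow_iff_right (by norm_num)).mp h3))
  refine hscn ⟨A, hAn, hsc, K.map B.subtype, (map_subtype_le K).trans hBA, ⟨⟨⟨fun a b => ?_⟩⟩, ?_⟩, ?_⟩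
  · obtain ⟨a', -, ha'⟩ := a.2
    obtain ⟨b', -, hb'⟩ := b.2
    refine Subtype.ext ?_
    show (a : X) * b = b * a
    rw [← ha', ← hb']
    exact congrArg Subtype.val (hBc.is_comm.comm a' b')
  · rintro _ ⟨a, -, rfl⟩
    exact hB2 a a.2
  · rw [Subgroup.card_map_of_injective B.subtype_injective, hK]; norm_num

end CfsgLib.LocalEvenB.NoNormalEight
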