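import Cfsg.Agent.Lib.LocalEvenB.NoNormalEight.Basic
import Cfsg.Agent.Lib.TwoGroups.CyclicMax

/-!
# The case in which the automorphisms fix the central involutions of the Frattini subgroup
-/

set_option autoImplicit false

namespace CfsgLib.LocalEvenB.NoNormalEight

open Subgroup
open CfsgLib.LocalEvenB.SelfCentralEight.Sections CfsgLib.LocalEvenB.SelfCentralEight.Conj

variable {X : Type*} [Group X] [Finite X]

/-- The standing hypotheses. -/
structure Hyp (A : Subgroup (MulAut X)) : Prop where
  h2 : IsPGroup 2 X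
  hna : ¬ IsMulCommutative X
  hS : Small X
  hA : Odd (Nat.card A)
  hg : Gen A

/-- `A` fixes the central involutions in the Frattini subgroup. -/
def FixesOmega (A : Subgroup (MulAut X)) : Prop :=
  ∀ φ ∈ A, ∀ z ∈ frattini X, (∀ g : X, g * z = z * g) → z * z = 1 → φ z = z

variable {A : Subgroup (MulAut X)}

omit [Finite X] in
/-- The square of a product when the commutator is central. -/
theorem mul_sq {x y : X} (hc : ∀ g : X, g * (y * x * y⁻¹ * x⁻¹) = (y * x * y⁻¹ * x⁻¹) * g) :
    x * y * (x * y) = (x * x) * (y * y) * (y * x * y⁻¹ * x⁻¹) := by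
  calc x * y * (x * y) = x * ((y * x * y⁻¹ * x⁻¹) * (x * (y * y))) := by group
    _ = x * ((x * (y * y)) * (y * x * y⁻¹ * x⁻¹)) := by rw [hc (x * (y * y))]
    _ = _ := by group

theorem Hyp.exists_omega (H : Hyp A) :
    ∃ z ∈ frattini X, z ≠ 1 ∧ z * z = 1 ∧ ∀ g : X, g * z = z * g := by
  obtain ⟨z, hz, ho, hc⟩ := CfsgLib.TwoGroups.Classify.exists_central_involution H.h2 (frattini X)
    (frattini_ne_bot H.h2 H.hna)
  refine ⟨z, hz, fun e => by simp [e] at ho, ?_, fun g => Subgroup.mem_center_iff.mp hc g⟩
  rw [← pow_two, ← ho]; exact pow_orderOf_eq_one z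

theorem fix_central (H : Hyp A) (hf : FixesOmega A) {φ : MulAut X} (hφ : φ ∈ A) {z : X}
    (hz : z ∈ frattini X) (hc : ∀ g : X, g * z = z * g) : φ z = z :=
  fix_of_fix_invols H.h2 (odd_order H.hA hφ) (U := frattini X ⊓ center X)
    (fun a ha _ _ => (Subgroup.mem_center_iff.mp (mem_inf.mp ha).2 _).symm)
    (fun u hu => mem_inf.mpr ⟨map_frattini φ (mem_inf.mp hu).1,
      mem_center_iff.mpr fun g => φ.symm.injective (by
        rw [map_mul, map_mul, MulEquiv.symm_apply_apply]
        exact mem_center_iff.mp (mem_inf.mp hu).2 _)⟩)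
    (fun u hu h1 => hf φ hφ u (mem_inf.mp hu).1 (fun g => mem_center_iff.mp (mem_inf.mp hu).2 g) h1)
    z (mem_inf.mpr ⟨hz, mem_center_iff.mpr hc⟩)

/-- The Frattini subgroup is central. -/
theorem frattini_central (H : Hyp A) (hf : FixesOmega A) {d : X} (hd : d ∈ frattini X) (g : X) :
    g * d = d * g := by
  have hle : frattini X ≤ center X := by
    by_contra hle
    set U0 := frattini X ⊓ center X with hU0
    obtain ⟨u, huD, huU, hus, huc⟩ := exists_step H.h2 (N := U0) (M := frattini X)
      (lt_of_le_of_ne inf_le_left (fun e => hle (e ▸ inf_le_right)))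
    let R : X → Prop := fun r => r ∈ frattini X ∧ r * r ∈ U0 ∧ ∀ g : X, g * r * g⁻¹ * r⁻¹ ∈ U0
    have hcen : ∀ {z : X}, z ∈ U0 → ∀ g : X, g * z = z * g :=
      fun hz g => mem_center_iff.mp (mem_inf.mp hz).2 g
    have hconj : ∀ {r}, R r → ∀ g, g * r * g⁻¹ = g * r * g⁻¹ * r⁻¹ * r := fun _ g => by group
    have hdel : ∀ {r}, R r → ∀ g, (g * r * g⁻¹ * r⁻¹) * (g * r * g⁻¹ * r⁻¹) = 1 := by
      intro r hr g
      set δ := g * r * g⁻¹ * r⁻¹ with hδ
      have h1 : g * (r * r) * g⁻¹ = r * r := by rw [hcen hr.2.1 g, mul_inv_cancel_right]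
      have h2 : g * (r * r) * g⁻¹ = δ * δ * (r * r) := by
        calc g * (r * r) * g⁻¹ = δ * r * (δ * r) := by rw [hδ]; group
          _ = δ * (r * δ) * r := by group
          _ = _ := by rw [show r * δ = δ * r from hcen (hr.2.2 g) r]; group
      exact mul_eq_right.mp (h2.symm.trans h1)
    have hD : ∀ {r}, R r → ∀ d ∈ frattini X, d * r = r * d := by
      intro r hr d hd
      let N : Subgroup X := Subgroup.centralizer ({r} : Set X)
      have hNn : N.Normal := ⟨fun n hn g => by
        rw [Subgroup.mem_centralizer_singleton_iff] at hn ⊢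
        have e : g⁻¹ * r * g = g⁻¹ * r * g⁻¹⁻¹ * r⁻¹ * r := by group
        have h1 : ∀ z ∈ U0, n * (z * r) = z * r * n := fun z hz => by
          rw [← mul_assoc, hcen hz n, mul_assoc, hn, ← mul_assoc]
        calc g * n * g⁻¹ * r = g * (n * (g⁻¹ * r * g)) * g⁻¹ := by group
          _ = g * ((g⁻¹ * r * g) * n) * g⁻¹ := by rw [e, h1 _ (hr.2.2 g⁻¹)]
          _ = _ := by group⟩
      refine mem_centralizer_singleton_iff.mp (frattini_le_of_squares hNn (fun x => ?_) hd)
      rw [Subgroup.mem_centralizer_singleton_iff]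
      have h1 := hdel hr x
      calc x * x * r = x * (x * r * x⁻¹ * r⁻¹) * r * x := by group
        _ = (x * r * x⁻¹ * r⁻¹) * (x * r * x⁻¹ * r⁻¹) * r * (x * x) := by
          rw [hcen (hr.2.2 x) x]; group
        _ = _ := by rw [h1, one_mul]
    let U : Subgroup X :=
      { carrier := {r | R r}
        one_mem' := ⟨one_mem _, by rw [mul_one]; exact one_mem _, fun g => by
          simpa using one_mem U0⟩
        mul_mem' := fun {a b} ha hb => ⟨mul_mem ha.1 hb.1, by
          rw [mul_assoc, ← mul_assoc b, hD ha b hb.1]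
          simpa [mul_assoc] using mul_mem ha.2.1 hb.2.1, fun g => by
          have e : g * (a * b) * g⁻¹ * (a * b)⁻¹ =
              (g * a * g⁻¹ * a⁻¹) * (a * (g * b * g⁻¹ * b⁻¹) * a⁻¹) := by group
          rw [e, hcen (hb.2.2 g) a, mul_inv_cancel_right]
          exact mul_mem (ha.2.2 g) (hb.2.2 g)⟩
        inv_mem' := fun {a} ha => ⟨inv_mem ha.1, by rw [← mul_inv_rev]; exact inv_mem ha.2.1, fun g => by
          have e : g * a⁻¹ * g⁻¹ * a⁻¹⁻¹ = a⁻¹ * (g * a * g⁻¹ * a⁻¹)⁻¹ * a := by group
          rw [e, hcen (inv_mem (ha.2.2 g)) a⁻¹, inv_mul_cancel_right]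
          exact inv_mem (ha.2.2 g)⟩ }
    have hUn : U.Normal := ⟨fun r hr g => by
      have e : g * r * g⁻¹ = g * r * g⁻¹ * r⁻¹ * r := by group
      have h0 : ∀ z ∈ U0, z ∈ U := fun z hz => ⟨(mem_inf.mp hz).1, mul_mem hz hz, fun k => by
        rw [hcen hz k, mul_inv_cancel_right, mul_inv_cancel]; exact one_mem U0⟩
      rw [e]; exact mul_mem (h0 _ (hr.2.2 g)) hr⟩
    have hUc : ∀ a ∈ U, ∀ b ∈ U, a * b = b * a := fun a ha b hb => hD hb a ha.1
    have hUi : ∀ φ ∈ A, ∀ r ∈ U, φ r ∈ U := fun φ hφ r hr => ⟨map_frattini φ hr.1, by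
      rw [← map_mul, fix_central H hf hφ (mem_inf.mp hr.2.1).1 (hcen hr.2.1)]; exact hr.2.1,
      fun g => by
      obtain ⟨k, rfl⟩ := φ.surjective g
      have h := hr.2.2 k
      rw [← map_inv, ← map_inv, ← map_mul, ← map_mul, ← map_mul,
        fix_central H hf hφ (mem_inf.mp h).1 (hcen h)]
      exact h⟩
    have huU' : u ∈ U := ⟨huD, hus, huc⟩
    obtain ⟨z, hzD, hz1, hzz, hzc⟩ := H.exists_omega
    have hfix : ∀ φ ∈ A, φ u = u := fun φ hφ =>
      fix_of_fix_invols H.h2 (odd_order H.hA hφ) hUc (hUi φ hφ)
        (fun w hw hww => fix_small (odd_order H.hA hφ) (card_sqOne H.hS hUn hUc)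
          (fun v hv => ⟨hUi φ hφ v hv.1, by rw [← map_mul, hv.2, map_one]⟩) (fun v hv => hv.2)
          (z := z) ⟨⟨hzD, by rw [hzz]; exact one_mem _, fun g => by
            rw [hzc g, mul_inv_cancel_right, mul_inv_cancel]; exact one_mem _⟩, hzz⟩ hz1
          (hf φ hφ z hzD hzc hzz) w ⟨hw, hww⟩) u huU'
    apply huU
    refine mem_inf.mpr ⟨huD, mem_center_iff.mpr fun g => ?_⟩
    refine mem_centralizer_singleton_iff.mp (mem_of_gen H.hg (N := centralizer ({u} : Set X))
      (fun φ hφ x => ?_) g)
    rw [Subgroup.mem_centralizer_singleton_iff]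
    have h1 : φ x * u * (φ x)⁻¹ = x * u * x⁻¹ := by
      have h := huc x
      have e := fix_central H hf hφ (mem_inf.mp h).1 (hcen h)
      rw [map_mul, map_mul, map_mul, map_inv, map_inv, hfix φ hφ] at e
      exact mul_right_cancel e
    calc x⁻¹ * φ x * u = x⁻¹ * (φ x * u * (φ x)⁻¹) * φ x := by group
      _ = x⁻¹ * (x * u * x⁻¹) * φ x := by rw [h1]
      _ = _ := by group
  exact mem_center_iff.mp (hle hd) g

/-- In the fixed case the Frattini subgroup has exponent two. -/
theorem frattini_sq (H : Hyp A) (hf : FixesOmega A) {d : X} (hd : d ∈ frattini X) : d * d = 1 := by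
  have hc : ∀ {z : X}, z ∈ frattini X → ∀ g : X, g * z = z * g := fun hz => frattini_central H hf hz
  -- commutators square to one
  have hk : ∀ x y : X, (x * y * x⁻¹ * y⁻¹) * (x * y * x⁻¹ * y⁻¹) = 1 := by
    intro x y
    set δ := x * y * x⁻¹ * y⁻¹ with hδ
    have h1 : x * (y * y) * x⁻¹ = y * y := by
      rw [hc (sq_mem_frattini H.h2 y) x, mul_inv_cancel_right]
    have h2 : x * (y * y) * x⁻¹ = δ * δ * (y * y) := by
      calc x * (y * y) * x⁻¹ = δ * y * (δ * y) := by rw [hδ]; group
        _ = δ * (y * δ) * y := by group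
        _ = _ := by rw [show y * δ = δ * y from hc (comm_mem_frattini H.h2 x y) y]; group
    exact mul_eq_right.mp (h2.symm.trans h1)
  have hmul : ∀ x y : X, x * y * (x * y) = (x * x) * (y * y) * (y * x * y⁻¹ * x⁻¹) := fun x y =>
    mul_sq (hc (comm_mem_frattini H.h2 y x))
  let N : Subgroup X :=
    { carrier := {x | x * x * (x * x) = 1}
      one_mem' := by simp
      mul_mem' := fun {x y} hx hy => by
        show x * y * (x * y) * (x * y * (x * y)) = 1
        rw [hmul x y]
        set p := x * x
        set q := y * y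
        set k := y * x * y⁻¹ * x⁻¹
        have hp : p ∈ frattini X := sq_mem_frattini H.h2 x
        have hk' : k * k = 1 := hk y x
        calc p * q * k * (p * q * k) = p * (q * k * p) * (q * k) := by group
          _ = (p * p) * (q * k * q) * k := by rw [hc hp (q * k)]; group
          _ = (p * p) * (q * q) * (k * k) := by
            rw [mul_assoc q k q, show k * q = q * k from hc (sq_mem_frattini H.h2 y) k]; group
          _ = 1 := by rw [hx, hy, hk', one_mul, one_mul]
      inv_mem' := fun {x} hx => by
        show x⁻¹ * x⁻¹ * (x⁻¹ * x⁻¹) = 1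
        rw [← mul_inv_rev, ← mul_inv_rev, hx, inv_one] }
  have hall : ∀ x : X, x * x * (x * x) = 1 := by
    refine mem_of_gen H.hg (N := N) fun φ hφ x => ?_
    show _ * _ * (_ * _) = 1
    set y := x⁻¹ * φ x with hy
    have e : φ x = x * y := by rw [hy]; group
    have h1 : x * y * (x * y) = x * x := by
      rw [← e, ← map_mul, fix_central H hf hφ (sq_mem_frattini H.h2 x) (hc (sq_mem_frattini H.h2 x))]
    rw [hmul, mul_assoc, mul_eq_left] at h1
    have h2 : y * y = (y * x * y⁻¹ * x⁻¹)⁻¹ := eq_inv_of_mul_eq_one_left h1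
    rw [h2, ← mul_inv_rev, hk, inv_one]
  let E : Subgroup X := sqOne (center X) fun a ha b _ => (mem_center_iff.mp ha b).symm
  have hEn : E.Normal := sqOne_normal inferInstance _
  exact (frattini_le_of_squares hEn (fun x => ⟨mem_center_iff.mpr (hc (sq_mem_frattini H.h2 x)), hall x⟩) hd).2

theorem fix_frattini (H : Hyp A) (hf : FixesOmega A) {φ : MulAut X} (hφ : φ ∈ A) {d : X}
    (hd : d ∈ frattini X) : φ d = d :=
  fix_central H hf hφ hd (frattini_central H hf hd)

theorem center_le (H : Hyp A) (hf : FixesOmega A) : center X ≤ frattini X := by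
  intro z hz
  obtain ⟨w, hwD, hw1, hww, hwc⟩ := H.exists_omega
  refine mem_frattini_of_fixed H.h2 H.hA H.hg fun φ hφ => ?_
  have hi : ∀ u ∈ center X, φ u ∈ center X := fun u hu => mem_center_iff.mpr fun g => φ.symm.injective (by
    rw [map_mul, map_mul, MulEquiv.symm_apply_apply]; exact mem_center_iff.mp hu _)
  have hcc : ∀ a ∈ center X, ∀ b ∈ center X, a * b = b * a :=
    fun a ha b _ => (mem_center_iff.mp ha b).symm
  rw [fix_of_fix_invols H.h2 (odd_order H.hA hφ) hcc hi (fun u hu huu =>
    fix_small (odd_order H.hA hφ) (card_sqOne H.hS inferInstance hcc)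
      (fun v hv => ⟨hi v hv.1, by rw [← map_mul, hv.2, map_one]⟩) (fun v hv => hv.2)
      (z := w) ⟨mem_center_iff.mpr hwc, hww⟩ hw1 (hf φ hφ w hwD hwc hww) u ⟨hu, huu⟩) z hz,
    inv_mul_cancel]
  exact one_mem _

theorem special (H : Hyp A) (hf : FixesOmega A) : Cfsg.IsSpecial 2 X := by
  have hDc : frattini X = center X := le_antisymm
    (fun d hd => mem_center_iff.mpr (frattini_central H hf hd)) (center_le H hf)
  refine ⟨H.h2, hDc, le_antisymm ?_ ?_⟩
  · rw [← hDc, commutator_def, Subgroup.commutator_le]
    intro x _ y _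
    rw [commutatorElement_def]; exact comm_mem_frattini H.h2 x y
  · rw [← hDc]
    have hc : ∀ x y : X, x * y * x⁻¹ * y⁻¹ ∈ commutator X := fun x y => by
      rw [commutator_def, ← commutatorElement_def]
      exact Subgroup.commutator_mem_commutator (mem_top x) (mem_top y)
    let N : Subgroup X :=
      { carrier := {x | x * x ∈ commutator X}
        one_mem' := by simp
        mul_mem' := fun {x y} hx hy => by
          show x * y * (x * y) ∈ commutator X
          rw [mul_sq (frattini_central H hf (comm_mem_frattini H.h2 y x))]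
          exact mul_mem (mul_mem hx hy) (hc _ _)
        inv_mem' := fun {x} hx => by
          show x⁻¹ * x⁻¹ ∈ commutator X
          rw [← mul_inv_rev]; exact inv_mem hx }
    refine frattini_le_of_squares inferInstance (mem_of_gen H.hg (N := N) fun φ hφ x => ?_)
    show _ * _ ∈ commutator X
    set y := x⁻¹ * φ x with hy
    have e : φ x = x * y := by rw [hy]; group
    have h1 : x * y * (x * y) = x * x := by
      rw [← e, ← map_mul, fix_frattini H hf hφ (sq_mem_frattini H.h2 x)]
    rw [mul_sq (frattini_central H hf (comm_mem_frattini H.h2 y x)), mul_assoc, mul_eq_left] at h1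
    rw [eq_inv_of_mul_eq_one_left h1]
    exact inv_mem (hc _ _)

/-- With at most eight cosets of the Frattini subgroup, all elements outside have the same square. -/
theorem sq_const (H : Hyp A) (hf : FixesOmega A) (hidx : (frattini X).index ≤ 8) {x y : X}
    (hx : x ∉ frattini X) (hy : y ∉ frattini X) : x * x = y * y := by
  classical
  letI : MulAction A (X ⧸ frattini X) :=
    { smul := fun φ q => QuotientGroup.map _ _ φ.1.toMonoidHom (fun d hd => Subgroup.mem_comap.mpr (map_frattini φ.1 hd)) q
      one_smul := fun q => by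
        induction q using QuotientGroup.induction_on with
        | H g => rfl
      mul_smul := fun φ ψ q => by
        induction q using QuotientGroup.induction_on with
        | H g => rfl }
  have hsmul : ∀ (φ : A) (g : X), φ • (g : X ⧸ frattini X) = ((φ.1 g : X) : X ⧸ frattini X) :=
    fun φ g => rfl
  have hodd : ∀ q : X ⧸ frattini X, Odd (MulAction.orbit A q).ncard := fun q => by
    refine H.hA.of_dvd_nat ?_
    rw [← MulAction.index_stabilizer]
    exact Subgroup.index_dvd_card _
  have hthree : ∀ q : X ⧸ frattini X, q ≠ 1 → 3 ≤ (MulAction.orbit A q).ncard := by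
    intro q hq
    by_contra hlt
    obtain ⟨m, hm⟩ := hodd q
    have h1 : (MulAction.orbit A q).ncard = 1 := by omega
    obtain ⟨w, hw⟩ := Set.ncard_eq_one.mp h1
    induction q using QuotientGroup.induction_on with
    | H g =>
      apply hq
      rw [QuotientGroup.eq_one_iff]
      refine mem_frattini_of_fixed H.h2 H.hA H.hg fun φ hφ => ?_
      have ha : ((φ g : X) : X ⧸ frattini X) ∈ MulAction.orbit A (g : X ⧸ frattini X) :=
        ⟨⟨φ, hφ⟩, hsmul _ g⟩
      have hb := MulAction.mem_orbit_self (M := A) (g : X ⧸ frattini X)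
      rw [hw, Set.mem_singleton_iff] at ha hb
      exact QuotientGroup.eq.mp (hb.trans ha.symm)
  have hne : ∀ {g : X}, g ∉ frattini X → (g : X ⧸ frattini X) ≠ 1 :=
    fun h e => h ((QuotientGroup.eq_one_iff _).mp e)
  have hone : ∀ q : X ⧸ frattini X, q ≠ 1 → (1 : X ⧸ frattini X) ∉ MulAction.orbit A q := by
    rintro q hq ⟨φ, hφ⟩
    induction q using QuotientGroup.induction_on with
    | H g =>
      apply hq
      have h1 : φ.1 g ∈ frattini X := (QuotientGroup.eq_one_iff _).mp ((hsmul φ g).symm.trans hφ)
      rw [QuotientGroup.eq_one_iff]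
      simpa using map_frattini φ.1.symm h1
  have hmem : ((y : X ⧸ frattini X)) ∈ MulAction.orbit A ((x : X ⧸ frattini X)) := by
    by_contra hxy
    set O1 := MulAction.orbit A ((x : X ⧸ frattini X))
    set O2 := MulAction.orbit A ((y : X ⧸ frattini X))
    have h12 : Disjoint O1 O2 := by
      rw [Set.disjoint_left]
      intro q h1 h2
      apply hxy
      rw [show O1 = O2 from (MulAction.orbit_eq_iff.mpr h1).symm.trans (MulAction.orbit_eq_iff.mpr h2)]
      exact MulAction.mem_orbit_self _
    have hcardQ : Nat.card (X ⧸ frattini X) ≤ 8 := by rwa [← Subgroup.index_eq_card]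
    have hu : ∀ S : Set (X ⧸ frattini X), 1 ∉ S → S.ncard ≤ 7 := fun S hS => by
      have := Set.ncard_le_card (insert 1 S)
      rw [Set.ncard_insert_of_notMem hS] at this
      omega
    have hU : 1 ∉ O1 ∪ O2 := by
      rintro (h | h)
      exacts [hone _ (hne hx) h, hone _ (hne hy) h]
    have hsum := hu _ hU
    rw [Set.ncard_union_eq h12] at hsum
    have a1 : 3 ≤ O1.ncard := hthree _ (hne hx)
    have a2 : 3 ≤ O2.ncard := hthree _ (hne hy)
    obtain ⟨m1, hm1⟩ : Odd O1.ncard := hodd _
    obtain ⟨m2, hm2⟩ : Odd O2.ncard := hodd _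
    -- a third orbit would be needed
    obtain ⟨w, hw⟩ : ∃ w, w ∉ insert 1 (O1 ∪ O2) := by
      by_contra hall
      push_neg at hall
      have : (insert 1 (O1 ∪ O2) : Set (X ⧸ frattini X)) = Set.univ := Set.eq_univ_of_forall hall
      have h := congrArg Set.ncard this
      rw [Set.ncard_insert_of_notMem hU, Set.ncard_union_eq h12, Set.ncard_univ] at h
      have he : Even (Nat.card (X ⧸ frattini X)) := by
        rcases (H.h2.to_quotient (frattini X)).card_eq_or_dvd (p := 2) with h1 | h1
        · omega
        · exact even_iff_two_dvd.mpr h1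
      rw [← h] at he
      obtain ⟨e, he⟩ := he
      omega
    simp only [Set.mem_insert_iff, Set.mem_union, not_or] at hw
    set O3 := MulAction.orbit A w
    have h13 : Disjoint O1 O3 := by
      rw [Set.disjoint_left]
      intro q h1 h3
      apply hw.2.1
      rw [show O1 = O3 from (MulAction.orbit_eq_iff.mpr h1).symm.trans (MulAction.orbit_eq_iff.mpr h3)]
      exact MulAction.mem_orbit_self _
    have h23 : Disjoint O2 O3 := by
      rw [Set.disjoint_left]
      intro q h1 h3
      apply hw.2.2
      rw [show O2 = O3 from (MulAction.orbit_eq_iff.mpr h1).symm.trans (MulAction.orbit_eq_iff.mpr h3)]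
      exact MulAction.mem_orbit_self _
    have := hu (O1 ∪ O2 ∪ O3) (by
      rintro ((h | h) | h)
      exacts [hone _ (hne hx) h, hone _ (hne hy) h, hone _ hw.1 h])
    rw [Set.ncard_union_eq (Set.disjoint_union_left.mpr ⟨h13, h23⟩), Set.ncard_union_eq h12] at this
    have a3 : 3 ≤ O3.ncard := hthree w hw.1
    omega
  obtain ⟨φ, hφ⟩ := hmem
  have h1 := QuotientGroup.eq.mp ((hsmul φ x).symm.trans hφ)
  obtain ⟨d, hd, rfl⟩ : ∃ d ∈ frattini X, y = φ.1 x * d := ⟨_, h1, (mul_inv_cancel_left _ _).symm⟩
  calc x * x = φ.1 (x * x) * (d * d) := by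
        rw [fix_frattini H hf φ.2 (sq_mem_frattini H.h2 x), frattini_sq H hf hd, mul_one]
    _ = φ.1 x * (φ.1 x * d) * d := by rw [map_mul]; group
    _ = φ.1 x * (d * φ.1 x) * d := by rw [← frattini_central H hf hd (φ.1 x)]
    _ = _ := by group

/-- A constant square outside the Frattini subgroup leaves fewer than eight cosets. -/
theorem not_const (H : Hyp A) (hf : FixesOmega A) (hidx : 8 ≤ (frattini X).index)
    (hcst : ∀ x y : X, x ∉ frattini X → y ∉ frattini X → x * x = y * y) : False := by
  set D := frattini X with hD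
  have hQ : 8 ≤ Nat.card (X ⧸ D) := by rwa [← Subgroup.index_eq_card]
  have hex : ∀ S : Finset (X ⧸ D), S.card ≤ 4 → ∃ g : X, (g : X ⧸ D) ∉ S := by
    intro S hS
    by_contra hall
    push_neg at hall
    have : (Set.univ : Set (X ⧸ D)).ncard ≤ S.card := by
      rw [← Set.ncard_coe_finset]
      refine Set.ncard_le_ncard (fun q _ => ?_) (Finset.finite_toSet S)
      induction q using QuotientGroup.induction_on with
      | H g => exact hall g
    rw [Set.ncard_univ] at this
    omega
  classical
  obtain ⟨x, hx⟩ := hex {1} (by simp)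
  simp only [Finset.mem_singleton, QuotientGroup.eq_one_iff] at hx
  set c := x * x with hcdef
  have hcD : c ∈ D := sq_mem_frattini H.h2 x
  have hval : ∀ y, y ∉ D → y * y = c := fun y hy => hcst y x hy hx
  have hkey : ∀ a b : X, a ∉ D → b ∉ D → a * b ∉ D → b * a * b⁻¹ * a⁻¹ = c := by
    intro a b ha hb hab
    have h := hval _ hab
    rwa [mul_sq (frattini_central H hf (comm_mem_frattini H.h2 b a)), hval a ha, hval b hb,
      frattini_sq H hf hcD, one_mul] at h
  obtain ⟨y, hy⟩ := hex {1, (x : X ⧸ D), (x : X ⧸ D)⁻¹}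
    (Finset.card_le_three.trans (by norm_num))
  simp only [Finset.mem_insert, Finset.mem_singleton, QuotientGroup.eq_one_iff, not_or] at hy
  obtain ⟨w, hw⟩ := hex {1, (x : X ⧸ D)⁻¹, (y : X ⧸ D)⁻¹, ((x * y : X) : X ⧸ D)⁻¹}
    Finset.card_le_four
  simp only [Finset.mem_insert, Finset.mem_singleton, QuotientGroup.eq_one_iff, not_or] at hw
  have out : ∀ a b : X, (b : X ⧸ D) ≠ (a : X ⧸ D)⁻¹ → a * b ∉ D := fun a b h h' =>
    h (eq_inv_of_mul_eq_one_right (by rw [← QuotientGroup.mk_mul]; exact (QuotientGroup.eq_one_iff _).mpr h'))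
  have h1 := hkey x y hx hy.1 (out x y hy.2.2)
  have h2 := hkey x w hx hw.1 (out x w hw.2.1)
  have h3 := hkey x (y * w) hx (out y w hw.2.2.1) (by
    rw [← mul_assoc]; exact out (x * y) w hw.2.2.2)
  have e : (y * w) * x * (y * w)⁻¹ * x⁻¹ =
      (y * (w * x * w⁻¹ * x⁻¹) * y⁻¹) * (y * x * y⁻¹ * x⁻¹) := by group
  rw [e, h2, h1, frattini_central H hf hcD y, mul_inv_cancel_right, frattini_sq H hf hcD] at h3
  -- all squares are trivial
  have hle : D ≤ ⊥ := frattini_le_of_squares inferInstance fun g => by
    rw [Subgroup.mem_bot]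
    by_cases hg : g ∈ D
    · exact frattini_sq H hf hg
    · rw [hval g hg, h3]
  exact frattini_ne_bot H.h2 H.hna (le_bot_iff.mp hle)

/-- The group is quaternion of order eight, special of order `64`, or extraspecial of order `32`. -/
theorem main_fixed (H : Hyp A) (hf : FixesOmega A) :
    Nonempty (X ≃* QuaternionGroup 2) ∨
      (Cfsg.IsSpecial 2 X ∧ Nat.card X = 64 ∧ Nat.card {x : X // orderOf x = 2} = 3 ∧
        ∀ x : X, orderOf x = 2 → x ∈ Subgroup.center X) ∨
      (Cfsg.IsExtraspecial 2 X ∧ Nat.card X = 32 ∧ Nat.card {x : X // orderOf x = 2} = 11) := by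
  classical
  haveI : Fact (Nat.Prime 2) := ⟨Nat.prime_two⟩
  set D := frattini X with hD
  have hsp := special H hf
  have hDc : D = center X := hsp.2.1
  have hcen : ∀ d ∈ D, ∀ g : X, g * d = d * g := fun d hd => frattini_central H hf hd
  have hsq : ∀ d ∈ D, d * d = 1 := fun d hd => frattini_sq H hf hd
  have hD4 : Nat.card D ≤ 4 := H.hS D inferInstance ⟨⟨fun a b => Subtype.ext (hcen b b.2 a)⟩⟩
    fun d hd => by rw [pow_two]; exact hsq d hd
  have hD2 : 2 ≤ Nat.card D := Finite.one_lt_card_iff_nontrivial.mpr
    ((Subgroup.nontrivial_iff_ne_bot D).mpr (frattini_ne_bot H.h2 H.hna))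
  have hcard : Nat.card D * D.index = Nat.card X := D.card_mul_index
  obtain ⟨k, hk⟩ := IsPGroup.iff_card.mp (H.h2.to_quotient D)
  rw [← Subgroup.index_eq_card] at hk
  have hk4 : k ≤ 4 := (Nat.pow_le_pow_iff_right (by norm_num : 1 < 2)).mp
    (hk ▸ index_frattini_le H.h2 H.hS)
  obtain ⟨j, hj⟩ := IsPGroup.iff_card.mp (H.h2.to_subgroup D)
  have hk2 : 2 ≤ k := by
    by_contra hlt
    by_cases hk0 : k = 0
    · rw [hk0, pow_zero, Subgroup.index_eq_one] at hk
      exact H.hna ⟨⟨fun a b => hcen b (hk ▸ mem_top b) a⟩⟩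
    · obtain rfl : k = 1 := by omega
      have hne : D ≠ ⊤ := fun e => by rw [e, Subgroup.index_top] at hk; norm_num at hk
      obtain ⟨x, -, hx⟩ := SetLike.exists_of_lt hne.lt_top
      refine hx (mem_frattini_of_fixed H.h2 H.hA H.hg fun φ _ => ?_)
      rw [← hD, Subgroup.mul_mem_iff_of_index_two (by simpa using hk), inv_mem_iff]
      exact iff_of_false hx fun h => hx (by simpa using map_frattini φ.symm h)
  by_cases h16 : k = 4
  · subst h16
    by_cases hD' : Nat.card D = 4
    · right; left
      have hinv : ∀ x : X, x * x = 1 → x ∈ D := fun x hx =>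
        mem_of_involution H.hS hD' (fun v hv g => hcen v hv g) (fun v hv => hsq v hv) hx
          fun g => comm_mem_frattini H.h2 g x
      refine ⟨hsp, by rw [← hcard, hk, hD']; norm_num, ?_, fun x hx => hDc ▸ hinv x (by
        rw [← pow_two, ← hx]; exact pow_orderOf_eq_one x)⟩
      have e : {x : X // orderOf x = 2} ≃ ((D : Set X) \ {1} : Set X) :=
        Equiv.subtypeEquivRight fun x => ⟨fun hx => ⟨hinv x (by
            rw [← pow_two, ← hx]; exact pow_orderOf_eq_one x), fun e => by
            rw [Set.mem_singleton_iff] at e; simp [e] at hx⟩,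
          fun hx => orderOf_eq_prime (by rw [pow_two]; exact hsq x hx.1) hx.2⟩
      rw [Nat.card_congr e, Nat.card_coe_set_eq, Set.ncard_sdiff_singleton_of_mem D.one_mem,
        ← Nat.card_coe_set_eq]
      show Nat.card D - 1 = 3
      omega
    · right; right
      have hDtwo : Nat.card D = 2 := by
        have : j ≤ 2 := (Nat.pow_le_pow_iff_right (by norm_num : 1 < 2)).mp (hj ▸ hD4)
        interval_cases j <;> simp_all
      have hX : Nat.card X = 32 := by rw [← hcard, hk, hDtwo]; norm_num
      refine ⟨⟨hsp, hDc ▸ hDtwo⟩, hX, ?_⟩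
      obtain ⟨c, hc1, hcU⟩ : ∃ c : X, c ≠ 1 ∧ (D : Set X) = {1, c} := by
        obtain ⟨c, hcD, hc1⟩ := (Subgroup.ne_bot_iff_exists_ne_one.mp (frattini_ne_bot H.h2 H.hna)) |>
          fun ⟨c, hc⟩ => (⟨c.1, c.2, fun e => hc (Subtype.ext e)⟩ : ∃ c : X, c ∈ D ∧ c ≠ 1)
        refine ⟨c, hc1, (Set.eq_of_subset_of_ncard_le (Set.insert_subset D.one_mem
          (Set.singleton_subset_iff.mpr hcD)) ?_).symm⟩
        rw [Set.ncard_pair hc1.symm, ← Nat.card_coe_set_eq]
        exact hDtwo.le
      have hmemD : ∀ d, d ∈ D ↔ d = 1 ∨ d = c := fun d => by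
        rw [← SetLike.mem_coe, hcU]; simp
      have hcD : c ∈ D := (hmemD c).mpr (Or.inr rfl)
      -- an involution outside the centre
      obtain ⟨x, hxD, hxx⟩ : ∃ x, x ∉ D ∧ x * x = 1 := by
        by_contra hno
        push_neg at hno
        refine not_const H hf (by rw [hk]; norm_num) fun a b ha hb => ?_
        rcases (hmemD _).mp (sq_mem_frattini H.h2 a) with e | e
        · exact absurd e (hno a ha)
        rcases (hmemD _).mp (sq_mem_frattini H.h2 b) with e' | e'
        · exact absurd e' (hno b hb)
        rw [e, e']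
      let K : Subgroup X := Subgroup.centralizer ({x} : Set X)
      have hKc : ∀ g, g ∉ K → g * x * g⁻¹ * x⁻¹ = c := fun g hg => by
        rcases (hmemD _).mp (comm_mem_frattini H.h2 g x) with h | h
        · rw [mul_inv_eq_one, mul_inv_eq_iff_eq_mul] at h
          exact absurd (Subgroup.mem_centralizer_singleton_iff.mpr h) hg
        · exact h
      have hKi : K.index = 2 := by
        obtain ⟨g0, hg0⟩ : ∃ g0, g0 ∉ K := by
          by_contra hall
          push_neg at hall
          exact hxD (hDc ▸ mem_center_iff.mpr fun g =>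
            Subgroup.mem_centralizer_singleton_iff.mp (hall g))
        refine Subgroup.index_eq_two_iff.mpr ⟨g0, fun b => ?_⟩
        by_cases hb : b ∈ K
        · exact Or.inr ⟨hb, fun h => hg0 ((K.mul_mem_cancel_left hb).mp h)⟩
        · refine Or.inl ⟨?_, hb⟩
          refine Subgroup.mem_centralizer_singleton_iff.mpr ?_
          have e1 := hKc b hb
          have e2 := hKc g0 hg0
          have : b * g0 * x * (b * g0)⁻¹ = x := by
            calc b * g0 * x * (b * g0)⁻¹ = b * (g0 * x * g0⁻¹ * x⁻¹) * b⁻¹ * (b * x * b⁻¹ * x⁻¹) * x := by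
                  group
              _ = x := by
                rw [e1, e2, hcen c hcD b, mul_inv_cancel_right, hsq c hcD, one_mul]
          calc b * g0 * x = b * g0 * x * (b * g0)⁻¹ * (b * g0) := by group
            _ = _ := by rw [this]
      have hK16 : Nat.card K = 16 := by
        have := K.card_mul_index
        rw [hKi, hX] at this
        omega
      have hxK : x ∈ K := Subgroup.mem_centralizer_singleton_iff.mpr rfl
      have hxs : x * x ∈ D := by rw [hxx]; exact one_mem D
      -- involutions of the centralizer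
      have hE : ∀ g, g ∈ K → g * g = 1 → g ∈ D ⊔ Subgroup.zpowers x := by
        intro g hgK hgg
        by_contra hgE
        let E := D ⊔ Subgroup.zpowers x
        haveI : E.Normal := step_normal hxs fun k => comm_mem_frattini H.h2 k x
        have hgs : g * g ∈ E := by rw [hgg]; exact one_mem E
        have hn := step_normal hgs fun k => mem_sup_left (comm_mem_frattini H.h2 k g)
        have h8 : Nat.card (E ⊔ Subgroup.zpowers g : Subgroup X) = 8 := by
          rw [step_card hgs hgE, step_card hxs hxD, hDtwo]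
        have hgx : g * x = x * g := Subgroup.mem_centralizer_singleton_iff.mp hgK
        let cl := Subgroup.closure ({c, x, g} : Set X)
        have hle : E ⊔ Subgroup.zpowers g ≤ cl := by
          refine sup_le (sup_le (fun d hd => ?_) (zpowers_le.mpr (subset_closure (by simp))))
            (zpowers_le.mpr (subset_closure (by simp)))
          rcases (hmemD d).mp hd with rfl | rfl
          exacts [one_mem _, subset_closure (by simp)]
        have hcomm : IsMulCommutative cl := Subgroup.isMulCommutative_closure (by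
          intro a ha b hb
          simp only [Set.mem_insert_iff, Set.mem_singleton_iff] at ha hb
          rcases ha with rfl | rfl | rfl <;> rcases hb with rfl | rfl | rfl
          all_goals first
            | rfl
            | exact (hcen _ hcD _).symm
            | exact hcen _ hcD _
            | exact hgx
            | exact hgx.symm)
        have hcl : ∀ a ∈ cl, ∀ b ∈ cl, a * b = b * a := fun a ha b hb =>
          congrArg Subtype.val (hcomm.is_comm.comm ⟨a, ha⟩ ⟨b, hb⟩)
        have := H.hS _ hn ⟨⟨fun a b => Subtype.ext (hcl _ (hle a.2) _ (hle b.2))⟩⟩ fun a ha => by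
          have hmem : a ∈ sqOne cl hcl := by
            refine (?_ : E ⊔ Subgroup.zpowers g ≤ sqOne cl hcl) ha
            refine sup_le (sup_le (fun d hd => ⟨hle (mem_sup_left (mem_sup_left hd)), hsq d hd⟩) ?_) ?_
            · exact zpowers_le.mpr ⟨subset_closure (by simp), hxx⟩
            · exact zpowers_le.mpr ⟨subset_closure (by simp), hgg⟩
          rw [pow_two]; exact hmem.2
        omega
      -- count the solutions of `g * g = 1`
      have hcount : Nat.card {g : X // g * g = 1} = 12 := by
        let I : Finset X := (Set.toFinite {g : X | g * g = 1}).toFinset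
        letI : Fintype X := Fintype.ofFinite X
        have hI : Nat.card {g : X // g * g = 1} = (Finset.univ.filter fun g : X => g * g = 1).card := by
          rw [Nat.card_eq_fintype_card, Fintype.card_subtype]
        rw [hI, ← Finset.card_filter_add_card_filter_not (p := fun g => g ∈ K)]
        have hin : ((Finset.univ.filter fun g : X => g * g = 1).filter fun g => g ∈ K).card = 4 := by
          have e : ((Finset.univ.filter fun g : X => g * g = 1).filter fun g => g ∈ K) =
              Finset.univ.filter fun g => g ∈ D ⊔ Subgroup.zpowers x := by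
            ext g
            simp only [Finset.mem_filter, Finset.mem_univ, true_and]
            refine ⟨fun h => hE g h.2 h.1, fun h => ?_⟩
            rcases step_mem hxs h with h | ⟨n, hn, rfl⟩
            · exact ⟨hsq g h, Subgroup.mem_centralizer_singleton_iff.mpr (hcen g h x).symm⟩
            · refine ⟨?_, mul_mem (Subgroup.mem_centralizer_singleton_iff.mpr (hcen n hn x).symm) hxK⟩
              calc n * x * (n * x) = n * (x * n) * x := by group
                _ = (n * n) * (x * x) := by rw [hcen n hn x]; group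
                _ = 1 := by rw [hsq n hn, hxx, one_mul]
          rw [e, ← Fintype.card_subtype, ← Nat.card_eq_fintype_card]
          exact (step_card hxs hxD).trans (by rw [hDtwo])
        have houtall : (Finset.univ.filter fun g : X => g ∉ K).card = 16 := by
          have := Finset.card_filter_add_card_filter_not (s := (Finset.univ : Finset X)) (p := fun g => g ∈ K)
          rw [Finset.card_univ, ← Nat.card_eq_fintype_card, hX, ← Fintype.card_subtype,
            ← Nat.card_eq_fintype_card, hK16] at this
          omega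
        have hflip : ∀ g, g ∉ K → (g * x ∉ K) ∧ ((g * x) * (g * x) = 1 ↔ g * g ≠ 1) := by
          intro g hg
          refine ⟨fun h => hg ((K.mul_mem_cancel_right hxK).mp h), ?_⟩
          have hc' := hKc g hg
          have hgg : g * x * (g * x) = g * g * c := by
            calc g * x * (g * x) = g * (x * g * x⁻¹ * g⁻¹) * g * (x * x) := by group
              _ = g * (g * x * g⁻¹ * x⁻¹)⁻¹ * g := by rw [hxx]; group
              _ = g * g * c := by
                rw [hc', inv_eq_of_mul_eq_one_right (hsq c hcD), mul_assoc, ← hcen c hcD g,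
                  ← mul_assoc]
          rw [hgg]
          constructor
          · intro h e; rw [e, one_mul] at h; exact hc1 h
          · intro h
            rcases (hmemD _).mp (sq_mem_frattini H.h2 g) with e | e
            · exact absurd e h
            · rw [e, hsq c hcD]
        have heq : ((Finset.univ.filter fun g : X => g ∉ K).filter fun g => g * g = 1).card =
            ((Finset.univ.filter fun g : X => g ∉ K).filter fun g => ¬ g * g = 1).card := by
          refine Finset.card_bij' (fun g _ => g * x) (fun g _ => g * x) ?_ ?_ ?_ ?_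
          · intro g hg
            simp only [Finset.mem_filter, Finset.mem_univ, true_and] at hg ⊢
            exact ⟨(hflip g hg.1).1, fun e => ((hflip g hg.1).2.mp e) hg.2⟩
          · intro g hg
            simp only [Finset.mem_filter, Finset.mem_univ, true_and] at hg ⊢
            exact ⟨(hflip g hg.1).1, (hflip g hg.1).2.mpr hg.2⟩
          · intro g _; rw [mul_assoc, hxx, mul_one]
          · intro g _; rw [mul_assoc, hxx, mul_one]
        have hsplit := Finset.card_filter_add_card_filter_not
          (s := Finset.univ.filter fun g : X => g ∉ K) (p := fun g => g * g = 1)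
        rw [houtall, ← heq, Finset.filter_comm] at hsplit
        rw [hin]
        omega
      have h1 : Nat.card {g : X // g * g = 1} = Nat.card {g : X // orderOf g = 2} + 1 := by
        have e1 : {g : X | g * g = 1} = insert 1 {g : X | orderOf g = 2} := by
          ext g
          simp only [Set.mem_setOf_eq, Set.mem_insert_iff]
          refine ⟨fun h => or_iff_not_imp_left.mpr fun h1 => orderOf_eq_prime (by rw [pow_two]; exact h) h1, ?_⟩
          rintro (rfl | h)
          · exact one_mul 1
          · rw [← pow_two, ← h]; exact pow_orderOf_eq_one g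
        show {g : X | g * g = 1}.ncard = {g : X | orderOf g = 2}.ncard + 1
        rw [e1, Set.ncard_insert_of_notMem (by simp)]
      omega
  have hk8 : D.index ≤ 8 := hk ▸ le_trans (Nat.pow_le_pow_right (by norm_num) (show k ≤ 3 by omega)) (by norm_num)
  have hcst : ∀ x y : X, x ∉ D → y ∉ D → x * x = y * y := fun x y => sq_const H hf hk8
  have hk' : k = 2 := by
    by_contra hne
    obtain rfl : k = 3 := by omega
    exact not_const H hf (by rw [hk]; norm_num) hcst
  subst hk'
  left
  obtain ⟨a, ha⟩ : ∃ a, a ∉ D := by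
    by_contra hall
    push_neg at hall
    rw [Subgroup.eq_top_iff' D |>.mpr hall, Subgroup.index_top] at hk
    norm_num at hk
  set c := a * a with hc
  have hcD : c ∈ D := sq_mem_frattini H.h2 a
  have hgen : D ≤ Subgroup.zpowers c := by
    haveI : (Subgroup.zpowers c).Normal := ⟨fun z hz g => by
      have hzD : z ∈ D := zpowers_le.mpr hcD hz
      rwa [hcen z hzD g, mul_inv_cancel_right]⟩
    refine frattini_le_of_squares inferInstance fun g => ?_
    by_cases hg : g ∈ D
    · rw [hsq g hg]; exact one_mem _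
    · rw [hcst g a hg ha]; exact mem_zpowers c
  have hc1 : c ≠ 1 := fun e => frattini_ne_bot H.h2 H.hna (by
    rw [e, zpowers_one_eq_bot] at hgen; exact le_bot_iff.mp hgen)
  have hoc : orderOf c = 2 := orderOf_eq_prime (by rw [pow_two]; exact hsq c hcD) hc1
  have hDtwo : Nat.card D = 2 := by
    have := Subgroup.card_le_of_le hgen
    rw [Nat.card_zpowers, hoc] at this
    omega
  have hX8 : Nat.card X = 4 * 2 := by rw [← hcard, hk, hDtwo]; norm_num
  have hoa : orderOf a = 2 * 2 := by
    have h := orderOf_eq_prime_pow (x := a) (p := 2) (n := 1) (by simpa [pow_two, ← hc] using hc1) (by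
      rw [show (2 : ℕ) ^ (1 + 1) = 2 * 2 by norm_num, pow_mul, pow_two, pow_two, ← hc]; exact hsq c hcD)
    simpa using h
  have hlt : Subgroup.zpowers a < ⊤ := lt_top_iff_ne_top.mpr fun e => by
    have := congrArg (fun S : Subgroup X => Nat.card S) e
    simp only [Nat.card_zpowers, Subgroup.card_top, hoa, hX8] at this
    omega
  obtain ⟨b, -, hb⟩ := SetLike.exists_of_lt hlt
  have hDa : D ≤ Subgroup.zpowers a :=
    hgen.trans (zpowers_le.mpr (mul_mem (mem_zpowers a) (mem_zpowers a)))
  have hbD : b ∉ D := fun h => hb (hDa h)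
  have hba : b * a ∉ D := fun h => hb ((Subgroup.mul_mem_cancel_right _ (mem_zpowers a)).mp (hDa h))
  have hbb : b * b = c := hcst b a hbD ha
  refine CfsgLib.TwoGroups.CyclicMax.quaternion_iso (m := 2) two_ne_zero hoa hX8 hb
    (by rw [hbb, pow_two]) ?_
  have h := hcst (b * a) a hba ha
  calc b * a * b⁻¹ = (b * a * (b * a)) * a⁻¹ * (b * b)⁻¹ := by group
    _ = c * a⁻¹ * c⁻¹ := by rw [h, hbb]
    _ = a⁻¹ := by rw [← hcen c hcD a⁻¹, mul_inv_cancel_right]

end CfsgLib.LocalEvenB.NoNormalEight
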