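import Cfsg.Agent.Lib.LocalEvenB.NoNormalEight.Fixed

/-!
# The case in which the automorphisms move a central involution of the Frattini subgroup
-/

set_option autoImplicit false

namespace CfsgLib.LocalEvenB.NoNormalEight

open Subgroup
open CfsgLib.LocalEvenB.SelfCentralEight.Sections CfsgLib.LocalEvenB.SelfCentralEight.Conj

variable {X : Type*} [Group X] [Finite X] {A : Subgroup (MulAut X)}

/-- The displacement `t⁻¹ x t x⁻¹`. -/
def dl (x t : X) : X := t⁻¹ * (x * t * x⁻¹)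

omit [Finite X] in
theorem map_dl (φ : MulAut X) (x t : X) : φ (dl x t) = dl (φ x) (φ t) := by simp [dl]

omit [Finite X] in
theorem conj_eq_dl (x t : X) : x * t * x⁻¹ = t * dl x t := by rw [dl, mul_inv_cancel_left]

omit [Finite X] in
theorem dl_eq_one {x t : X} : dl x t = 1 ↔ x * t = t * x := by
  rw [dl, inv_mul_eq_one, eq_comm, mul_inv_eq_iff_eq_mul]

/-- The setting: `a` moves the central four-group `V` of the Frattini subgroup. -/
structure Moved (A : Subgroup (MulAut X)) (a : MulAut X) (V : Subgroup X) : Prop where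
  hyp : Hyp A
  ha : a ∈ A
  card : Nat.card V = 4
  le : V ≤ frattini X
  cen : ∀ v ∈ V, ∀ g : X, g * v = v * g
  sq : ∀ v ∈ V, v * v = 1
  mem : ∀ v ∈ frattini X, (∀ g : X, g * v = v * g) → v * v = 1 → v ∈ V
  move : ∀ v ∈ V, a v = v → v = 1

namespace Moved

variable {a : MulAut X} {V : Subgroup X} (M : Moved A a V)

include M

theorem inv_eq {v : X} (hv : v ∈ V) : v⁻¹ = v := inv_eq_of_mul_eq_one_right (M.sq v hv)

theorem normal : V.Normal := ⟨fun v hv g => by rwa [M.cen v hv g, mul_inv_cancel_right]⟩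

theorem map_mem {φ : MulAut X} {v : X} (hv : v ∈ V) : φ v ∈ V :=
  M.mem _ (map_frattini φ (M.le hv)) (fun g => φ.symm.injective (by
    rw [map_mul, map_mul, MulEquiv.symm_apply_apply]; exact M.cen v hv _))
    (by rw [← map_mul, M.sq v hv, map_one])

theorem odd_a : Odd (orderOf a) := odd_order M.hyp.hA M.ha

theorem a_ne {v : X} (hv : v ∈ V) (h1 : v ≠ 1) : a v ≠ v := fun e => h1 (M.move v hv e)

theorem aa_ne {v : X} (hv : v ∈ V) (h1 : v ≠ 1) : a (a v) ≠ v :=
  fun e => M.a_ne hv h1 (fixed_of_swap M.odd_a e)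

theorem cases {v w : X} (hv : v ∈ V) (h1 : v ≠ 1) (hw : w ∈ V) :
    w = 1 ∨ w = v ∨ w = a v ∨ w = a (a v) := by
  classical
  by_contra hne
  push_neg at hne
  have e1 : a v ≠ 1 := fun e => h1 (a.injective (e.trans (map_one a).symm))
  have e2 : a (a v) ≠ 1 := fun e => e1 (a.injective (e.trans (map_one a).symm))
  have hsub : (({1, v, a v, a (a v), w} : Finset X) : Set X) ⊆ (V : Set X) := by
    intro x hx
    simp only [Finset.coe_insert, Finset.coe_singleton, Set.mem_insert_iff, Set.mem_singleton_iff] at hx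
    rcases hx with rfl | rfl | rfl | rfl | rfl
    exacts [V.one_mem, hv, M.map_mem hv, M.map_mem (M.map_mem hv), hw]
  have h := Set.ncard_le_ncard hsub
  rw [Set.ncard_coe_finset, ← Nat.card_coe_set_eq, Finset.card_insert_of_notMem,
    Finset.card_insert_of_notMem, Finset.card_insert_of_notMem, Finset.card_insert_of_notMem,
    Finset.card_singleton] at h
  · exact absurd (h.trans M.card.le) (by norm_num)
  · simp only [Finset.mem_singleton]; exact hne.2.2.2.symm
  · simp only [Finset.mem_insert, Finset.mem_singleton, not_or]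
    exact ⟨fun e => M.a_ne hv h1 (a.injective e.symm), hne.2.2.1.symm⟩
  · simp only [Finset.mem_insert, Finset.mem_singleton, not_or]
    exact ⟨(M.a_ne hv h1).symm, (M.aa_ne hv h1).symm, hne.2.1.symm⟩
  · simp only [Finset.mem_insert, Finset.mem_singleton, not_or]
    exact ⟨h1.symm, e1.symm, e2.symm, hne.1.symm⟩

theorem three {v : X} (hv : v ∈ V) : a (a (a v)) = v := by
  by_cases h1 : v = 1
  · simp [h1]
  rcases M.cases hv h1 (M.map_mem (φ := a) (M.map_mem (φ := a) (M.map_mem (φ := a) hv))) with h | h | h | h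
  · exact absurd (a.injective (a.injective (a.injective (h.trans (by simp))))) h1
  · exact h
  · exact absurd (a.injective h) (M.aa_ne hv h1)
  · exact absurd (a.injective (a.injective h)) (M.a_ne hv h1)

theorem norm {v : X} (hv : v ∈ V) : v * a v * a (a v) = 1 := by
  refine M.move _ (V.mul_mem (V.mul_mem hv (M.map_mem hv)) (M.map_mem (M.map_mem hv))) ?_
  rw [map_mul, map_mul, M.three hv, M.cen v hv (a v * a (a v)), ← mul_assoc]

end Moved

/-- An invariant abelian normal subgroup between `V` and the Frattini subgroup. -/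
structure Sub (A : Subgroup (MulAut X)) (a : MulAut X) (V T : Subgroup X) : Prop where
  mv : Moved A a V
  normal : T.Normal
  comm : ∀ s ∈ T, ∀ t ∈ T, s * t = t * s
  inv : ∀ t ∈ T, a t ∈ T
  le : V ≤ T
  le_frattini : T ≤ frattini X

namespace Sub

variable {a : MulAut X} {V T : Subgroup X} (S : Sub A a V T)

include S

theorem omega {t : X} (ht : t ∈ T) (h : t * t = 1) : t ∈ V :=
  sq_one_mem S.mv.hyp.hS S.mv.card S.mv.sq S.le S.normal S.comm ht h

theorem fix_invariant {φ : MulAut X} (hφ : φ ∈ A) (hinv : ∀ t ∈ T, φ t ∈ T)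
    (h : ∀ v ∈ V, φ v = v) : ∀ t ∈ T, φ t = t :=
  fix_of_fix_invols S.mv.hyp.h2 (odd_order S.mv.hyp.hA hφ) S.comm hinv
    fun t ht h2 => h t (S.omega ht h2)

theorem three {t : X} (ht : t ∈ T) : a (a (a t)) = t :=
  S.fix_invariant (φ := a * a * a) (mul_mem (mul_mem S.mv.ha S.mv.ha) S.mv.ha)
    (fun u hu => S.inv _ (S.inv _ (S.inv u hu))) (fun v hv => S.mv.three hv) t ht

theorem fixed_eq_one {t : X} (ht : t ∈ T) (h : a t = t) : t = 1 := by
  obtain ⟨k, hk⟩ := S.mv.hyp.h2 t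
  induction k generalizing t with
  | zero => simpa using hk
  | succ k ih =>
    have h1 := ih (mul_mem ht ht) (by rw [map_mul, h])
      (by rw [← pow_two, ← pow_mul, ← pow_succ']; exact hk)
    exact S.mv.move t (S.omega ht h1) h

theorem norm {t : X} (ht : t ∈ T) : t * a t * a (a t) = 1 := by
  refine S.fixed_eq_one (mul_mem (mul_mem ht (S.inv t ht)) (S.inv _ (S.inv t ht))) ?_
  rw [map_mul, map_mul, S.three ht,
    S.comm _ (mul_mem (S.inv t ht) (S.inv _ (S.inv t ht))) t ht, ← mul_assoc]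

/-- Solving `t · a s = s`. -/
theorem lift {W : Subgroup X} {t : X} (htT : t ∈ T) (ht : t ∈ W) (hat : a t ∈ W) :
    ∃ s ∈ W, t * a s = s := by
  have hco : Nat.Coprime 3 (orderOf t) := by
    obtain ⟨k, hk⟩ := (IsPGroup.iff_orderOf.mp S.mv.hyp.h2) t
    rw [hk]; exact Nat.Coprime.pow_right k (by norm_num)
  obtain ⟨j, hj⟩ := exists_pow_eq_self_of_coprime hco
  refine ⟨(t * t * a t) ^ j, pow_mem (mul_mem (mul_mem ht ht) hat) j, ?_⟩
  have hy : t * t * a t ∈ T := mul_mem (mul_mem htT htT) (S.inv t htT)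
  have h3 : t * t * a t = t ^ 3 * a (t * t * a t) := by
    have hn : a (a t) = (t * a t)⁻¹ := eq_inv_of_mul_eq_one_right (S.norm htT)
    rw [map_mul, map_mul, hn]
    have hc : Commute t (a t) := S.comm t htT _ (S.inv t htT)
    rw [mul_inv_rev, show a t * a t * ((a t)⁻¹ * t⁻¹) = a t * t⁻¹ by group,
      ← hc.inv_left.eq, pow_succ, pow_two]
    group
  have hy' : a (t * t * a t) ∈ T := S.inv _ hy
  conv_rhs => rw [h3]
  rw [map_pow, (show Commute (t ^ 3) (a (t * t * a t)) from S.comm _ (pow_mem htT 3) _ hy').mul_pow, hj]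

/-- The squares of elements of `T`. -/
theorem exists_sqs : ∃ Q : Subgroup X, Q.Normal ∧ Q ≤ T ∧
    ∀ u, u ∈ Q ↔ ∃ w ∈ T, u = w * w := by
  refine ⟨{ carrier := {u | ∃ w ∈ T, u = w * w}
            one_mem' := ⟨1, one_mem T, (mul_one 1).symm⟩
            mul_mem' := ?_
            inv_mem' := ?_ }, ⟨?_⟩, ?_, fun u => Iff.rfl⟩
  · rintro _ _ ⟨u, hu, rfl⟩ ⟨w, hw, rfl⟩
    refine ⟨u * w, mul_mem hu hw, ?_⟩
    rw [mul_assoc u w, ← mul_assoc w u, S.comm w hw u hu]; group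
  · rintro _ ⟨u, hu, rfl⟩
    exact ⟨u⁻¹, inv_mem hu, mul_inv_rev u u⟩
  · rintro _ ⟨u, hu, rfl⟩ g
    exact ⟨g * u * g⁻¹, S.normal.conj_mem u hu g, by group⟩
  · rintro _ ⟨u, hu, rfl⟩
    exact mul_mem hu hu

theorem sq_of_coset {t : X} (ht : t ∈ T) {w : X} (hw : w ∈ T) (h : t⁻¹ * a t = w * w) :
    ∃ u ∈ T, t = u * u := by
  obtain ⟨Q, -, hQT, hQ⟩ := S.exists_sqs
  have h1 : t⁻¹ * a t ∈ Q := (hQ _).mpr ⟨w, hw, h⟩
  have h2 : a (t⁻¹ * a t) ∈ Q := (hQ _).mpr ⟨a w, S.inv w hw, by rw [h, map_mul]⟩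
  obtain ⟨s, hsQ, hs⟩ := S.lift (hQT h1) h1 h2
  have h3 : a (t * s) = t * s := by
    conv_rhs => rw [← hs]
    rw [map_mul]; group
  have h4 := S.fixed_eq_one (mul_mem ht (hQT hsQ)) h3
  obtain ⟨u, hu, hsu⟩ := (hQ s).mp hsQ
  exact ⟨u⁻¹, inv_mem hu, by rw [eq_inv_of_mul_eq_one_left h4, hsu, mul_inv_rev]⟩

/-- `T` is covered by the squares and three cosets of them. -/
theorem cover {t : X} (ht : t ∈ T) (hns : ∀ w ∈ T, t ≠ w * w) {u : X} (hu : u ∈ T) :
    ∃ w ∈ T, u = w * w ∨ u = t * (w * w) ∨ u = a t * (w * w) ∨ u = a (a t) * (w * w) := by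
  classical
  haveI : IsMulCommutative T := ⟨⟨fun x y => Subtype.ext (S.comm _ x.2 _ y.2)⟩⟩
  let sq : T →* T :=
    { toFun := fun x => x * x
      map_one' := mul_one 1
      map_mul' := fun x y => Subtype.ext (by
        show (x : X) * y * (x * y) = x * x * (y * y)
        rw [mul_assoc (x : X) y, ← mul_assoc (y : X) x, S.comm _ y.2 _ x.2]; group) }
  have hker : Nat.card sq.ker = 4 := by
    rw [← S.mv.card]
    refine Nat.card_congr ⟨fun x => ⟨x.1.1, S.omega x.1.2 (congrArg Subtype.val x.2)⟩,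
      fun v => ⟨⟨v.1, S.le v.2⟩, Subtype.ext (S.mv.sq v.1 v.2)⟩, fun x => rfl, fun v => rfl⟩
  haveI : sq.range.Normal := ⟨fun x hx g => by
    have : g * x * g⁻¹ = x := Subtype.ext (by
      show (g : X) * x * (g : X)⁻¹ = x
      rw [S.comm _ g.2 _ x.2, mul_inv_cancel_right])
    rwa [this]⟩
  have hidx : Nat.card (T ⧸ sq.range) = 4 := by
    rw [← Subgroup.index_eq_card]
    have h1 := sq.range.card_mul_index
    have h2 := sq.ker.card_mul_index
    rw [Subgroup.index_ker, hker] at h2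
    rw [← h2, mul_comm 4] at h1
    exact Nat.eq_of_mul_eq_mul_left Nat.card_pos h1
  have hmem : ∀ x : T, x ∈ sq.range ↔ ∃ w ∈ T, (x : X) = w * w := fun x =>
    ⟨fun ⟨w, hw⟩ => ⟨w, w.2, (congrArg Subtype.val hw).symm⟩,
      fun ⟨w, hw, h⟩ => ⟨⟨w, hw⟩, Subtype.ext h.symm⟩⟩
  let t1 : T := ⟨t, ht⟩
  let t2 : T := ⟨a t, S.inv t ht⟩
  let t3 : T := ⟨a (a t), S.inv _ (S.inv t ht)⟩
  have n1 : (t1 : T ⧸ sq.range) ≠ 1 := fun e => by
    obtain ⟨w, hw, h⟩ := (hmem _).mp ((QuotientGroup.eq_one_iff _).mp e)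
    exact hns w hw h
  have n2 : (t2 : T ⧸ sq.range) ≠ 1 := fun e => by
    obtain ⟨w, hw, h⟩ := (hmem _).mp ((QuotientGroup.eq_one_iff _).mp e)
    refine hns (a (a w)) (S.inv _ (S.inv w hw)) ?_
    rw [← map_mul, ← map_mul, ← h]; exact (S.three ht).symm
  have n3 : (t3 : T ⧸ sq.range) ≠ 1 := fun e => by
    obtain ⟨w, hw, h⟩ := (hmem _).mp ((QuotientGroup.eq_one_iff _).mp e)
    refine hns (a w) (S.inv w hw) ?_
    rw [← map_mul, ← h]; exact (S.three ht).symm
  have n12 : (t1 : T ⧸ sq.range) ≠ t2 := fun e => by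
    obtain ⟨w, hw, h⟩ := (hmem _).mp (QuotientGroup.eq.mp e)
    obtain ⟨q, hq, hq'⟩ := S.sq_of_coset ht hw h
    exact hns q hq hq'
  have n23 : (t2 : T ⧸ sq.range) ≠ t3 := fun e => by
    obtain ⟨w, hw, h⟩ := (hmem _).mp (QuotientGroup.eq.mp e)
    obtain ⟨q, hq, hq'⟩ := S.sq_of_coset (S.inv t ht) hw h
    refine hns (a (a q)) (S.inv _ (S.inv q hq)) ?_
    rw [← map_mul, ← map_mul, ← hq']; exact (S.three ht).symm
  have n13 : (t1 : T ⧸ sq.range) ≠ t3 := fun e => by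
    obtain ⟨w, hw, h⟩ := (hmem _).mp (QuotientGroup.eq.mp e.symm)
    have h' : (a (a t))⁻¹ * a (a (a t)) = w * w := by rw [S.three ht]; exact h
    obtain ⟨q, hq, hq'⟩ := S.sq_of_coset (S.inv _ (S.inv t ht)) hw h'
    refine hns (a q) (S.inv q hq) ?_
    rw [← map_mul, ← hq']; exact (S.three ht).symm
  let F : Finset (T ⧸ sq.range) := {1, (t1 : T ⧸ sq.range), (t2 : T ⧸ sq.range), (t3 : T ⧸ sq.range)}
  have hF : F.card = 4 := by
    simp only [F]
    rw [Finset.card_insert_of_notMem, Finset.card_insert_of_notMem, Finset.card_insert_of_notMem,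
      Finset.card_singleton]
    · simp [n23]
    · simp [n12, n13]
    · simp [n1.symm, n2.symm, n3.symm]
  letI : Fintype (T ⧸ sq.range) := Fintype.ofFinite _
  have huniv : F = Finset.univ := Finset.eq_univ_of_card F (by rw [hF, ← Nat.card_eq_fintype_card, hidx])
  have hu' : ((⟨u, hu⟩ : T) : T ⧸ sq.range) ∈ F := huniv ▸ Finset.mem_univ _
  simp only [F, Finset.mem_insert, Finset.mem_singleton] at hu'
  have hget : ∀ y : T, (y : T ⧸ sq.range) = ((⟨u, hu⟩ : T) : T ⧸ sq.range) →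
      ∃ w ∈ T, u = (y : X) * (w * w) := fun y e => by
    obtain ⟨w, hw, h⟩ := (hmem _).mp (QuotientGroup.eq.mp e)
    exact ⟨w, hw, by rw [← h]; exact (mul_inv_cancel_left (y : X) u).symm⟩
  rcases hu' with e | e | e | e
  · obtain ⟨w, hw, h⟩ := hget 1 (by rw [e]; rfl)
    exact ⟨w, hw, Or.inl (by rw [h]; exact one_mul _)⟩
  · obtain ⟨w, hw, h⟩ := hget t1 e.symm
    exact ⟨w, hw, Or.inr (Or.inl h)⟩
  · obtain ⟨w, hw, h⟩ := hget t2 e.symm
    exact ⟨w, hw, Or.inr (Or.inr (Or.inl h))⟩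
  · obtain ⟨w, hw, h⟩ := hget t3 e.symm
    exact ⟨w, hw, Or.inr (Or.inr (Or.inr h))⟩

/-- If `T ≠ V` every element of `V` is the square of an element of `T`. -/
theorem exists_root (hne : T ≠ V) {v : X} (hv : v ∈ V) : ∃ s ∈ T, s * s = v := by
  obtain ⟨t, htT, htV⟩ := SetLike.exists_of_lt (lt_of_le_of_ne S.le hne.symm)
  obtain ⟨k, hk⟩ := S.mv.hyp.h2 t
  have key : ∀ k : ℕ, ∀ t ∈ T, t ∉ V → t ^ 2 ^ k = 1 → ∃ s ∈ T, s * s ∈ V ∧ s * s ≠ 1 := by
    intro k
    induction k with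
    | zero => intro t _ htV hk; simp only [pow_zero, pow_one] at hk; exact absurd (hk ▸ V.one_mem) htV
    | succ k ih =>
      intro t ht htV hk
      by_cases h : t * t ∈ V
      · exact ⟨t, ht, h, fun e => htV (S.omega ht e)⟩
      · exact ih _ (mul_mem ht ht) h (by rw [← pow_two, ← pow_mul, ← pow_succ']; exact hk)
  obtain ⟨s, hs, hsV, hs1⟩ := key k t htT htV hk
  rcases S.mv.cases hsV hs1 hv with rfl | rfl | rfl | rfl
  · exact ⟨1, one_mem T, mul_one 1⟩
  · exact ⟨s, hs, rfl⟩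
  · exact ⟨a s, S.inv s hs, (map_mul a s s).symm⟩
  · exact ⟨a (a s), S.inv _ (S.inv s hs), by rw [map_mul, map_mul]⟩

theorem dl_mem {x t : X} (ht : t ∈ T) : dl x t ∈ T :=
  mul_mem (inv_mem ht) (S.normal.conj_mem t ht x)

theorem dl_mul (x : X) {s t : X} (hs : s ∈ T) (ht : t ∈ T) : dl x (s * t) = dl x s * dl x t := by
  calc dl x (s * t) = t⁻¹ * (s⁻¹ * (x * s * x⁻¹)) * (x * t * x⁻¹) := by simp only [dl]; group
    _ = (s⁻¹ * (x * s * x⁻¹)) * t⁻¹ * (x * t * x⁻¹) := by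
      rw [S.comm _ (inv_mem ht) (s⁻¹ * (x * s * x⁻¹)) (S.dl_mem hs)]
    _ = _ := by simp only [dl]; group

theorem dl_prod (x y : X) {t : X} (h : dl y t ∈ V) : dl (x * y) t = dl x t * dl y t := by
  calc dl (x * y) t = t⁻¹ * (x * (y * t * y⁻¹) * x⁻¹) := by simp only [dl]; group
    _ = t⁻¹ * (x * t * (dl y t * x⁻¹)) := by rw [conj_eq_dl y t]; group
    _ = t⁻¹ * (x * t * (x⁻¹ * dl y t)) := by rw [S.mv.cen _ h x⁻¹]
    _ = _ := by simp only [dl]; group

theorem dl_inverted {x t : X} (ht : t ∈ T) (hxx : x * x * t = t * (x * x)) :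
    x * dl x t * x⁻¹ = (dl x t)⁻¹ := by
  calc x * dl x t * x⁻¹ = (x * t * x⁻¹)⁻¹ * (x * x * t) * (x * x)⁻¹ := by simp only [dl]; group
    _ = (x * t * x⁻¹)⁻¹ * t := by rw [hxx]; group
    _ = _ := by simp only [dl]; group

/-- Elements of `T` of order dividing four are displaced inside `V`. -/
theorem dl_mem_of_four (x : X) {t : X} (ht : t ∈ T) (h4 : t * t * (t * t) = 1) : dl x t ∈ V := by
  refine S.omega (S.dl_mem ht) ?_
  rw [← S.dl_mul x ht ht, dl_eq_one]
  exact S.mv.cen _ (S.omega (mul_mem ht ht) h4) x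

/-- The Frattini subgroup centralizes the elements of order dividing four. -/
theorem frattini_comm_four {d t : X} (hd : d ∈ frattini X) (ht : t ∈ T)
    (h4 : t * t * (t * t) = 1) : d * t = t * d := by
  let U : Subgroup X :=
    { carrier := {u | u ∈ T ∧ u * u * (u * u) = 1}
      one_mem' := ⟨one_mem T, by simp⟩
      mul_mem' := fun {u w} hu hw => ⟨mul_mem hu.1 hw.1, by
        have hc : ∀ {p q : X}, p ∈ T → q ∈ T → p * q * (p * q) = p * p * (q * q) := fun {p q} hp hq => by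
          rw [mul_assoc p q, ← mul_assoc q p, S.comm q hq p hp]; group
        rw [hc hu.1 hw.1, hc (mul_mem hu.1 hu.1) (mul_mem hw.1 hw.1), hu.2, hw.2, one_mul]⟩
      inv_mem' := fun {u} hu => ⟨inv_mem hu.1, by rw [← mul_inv_rev, ← mul_inv_rev, hu.2, inv_one]⟩ }
  have hUn : U.Normal := ⟨fun u hu g => ⟨S.normal.conj_mem u hu.1 g, by
    rw [show g * u * g⁻¹ * (g * u * g⁻¹) * (g * u * g⁻¹ * (g * u * g⁻¹)) = g * (u * u * (u * u)) * g⁻¹ by
      group, hu.2, mul_one, mul_inv_cancel]⟩⟩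
  have hle : frattini X ≤ Subgroup.centralizer (U : Set X) := by
    haveI := hUn
    refine frattini_le_of_squares Subgroup.normal_centralizer fun x => ?_
    refine mem_centralizer_iff.mpr fun u hu => ?_
    have h := S.dl_mem_of_four x hu.1 hu.2
    symm
    rw [← dl_eq_one, S.dl_prod x x h, S.mv.sq _ h]
  exact (mem_centralizer_iff.mp (hle hd) t ⟨ht, h4⟩).symm

theorem dl_mem_V {x : X} (hxx : ∀ t ∈ T, x * x * t = t * (x * x))
    (h4 : ∀ t ∈ T, t * t * (t * t) = 1 → x * t = t * x) {t : X} (ht : t ∈ T) : dl x t ∈ V := by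
  obtain ⟨k, hk⟩ := S.mv.hyp.h2 t
  induction k generalizing t with
  | zero =>
    simp only [pow_zero, pow_one] at hk
    rw [hk, dl]; simp
  | succ k ih =>
    have h1 := ih (mul_mem ht ht) (by rw [← pow_two, ← pow_mul, ← pow_succ']; exact hk)
    rw [S.dl_mul x ht ht] at h1
    have hd := S.dl_mem (x := x) ht
    have h2 := S.dl_inverted ht (hxx t ht)
    rw [h4 _ hd (S.mv.sq _ h1), mul_inv_cancel_right] at h2
    exact S.omega hd (mul_eq_one_iff_eq_inv.mpr h2)

omit S in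
theorem dl_one_right (x : X) : dl x 1 = 1 := by simp [dl]

/-- Displacements in `V` kill squares. -/
theorem dl_sq {x w : X} (hw : w ∈ T) (h : dl x w ∈ V) : dl x (w * w) = 1 := by
  rw [S.dl_mul x hw hw, S.mv.sq _ h]

/-- A displacement with invariant kernel meeting a non-square is trivial. -/
theorem eq_one_of_ker {x : X} (hV : ∀ u ∈ T, dl x u ∈ V)
    (hinv : ∀ u ∈ T, dl x u = 1 → dl x (a u) = 1) {t : X} (ht : t ∈ T)
    (hns : ∀ w ∈ T, t ≠ w * w) (h1 : dl x t = 1) : ∀ u ∈ T, dl x u = 1 := by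
  intro u hu
  have h2 := hinv t ht h1
  have h3 := hinv _ (S.inv t ht) h2
  obtain ⟨w, hw, h⟩ := S.cover ht hns hu
  have h0 := S.dl_sq hw (hV w hw)
  rcases h with rfl | rfl | rfl | rfl
  · exact h0
  · rw [S.dl_mul x ht (mul_mem hw hw), h1, h0, one_mul]
  · rw [S.dl_mul x (S.inv t ht) (mul_mem hw hw), h2, h0, one_mul]
  · rw [S.dl_mul x (S.inv _ (S.inv t ht)) (mul_mem hw hw), h3, h0, one_mul]


end Sub

end CfsgLib.LocalEvenB.NoNormalEight
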