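import Cfsg.Agent.Lib.LocalEvenB.NoNormalEight.Moved

/-!
# In the moved case the Frattini subgroup is abelian
-/

set_option autoImplicit false

namespace CfsgLib.LocalEvenB.NoNormalEight

open Subgroup
open CfsgLib.LocalEvenB.SelfCentralEight.Sections CfsgLib.LocalEvenB.SelfCentralEight.Conj

variable {X : Type*} [Group X] [Finite X] {A : Subgroup (MulAut X)} {a : MulAut X} {V T : Subgroup X}

namespace Sub

variable (S : Sub A a V T)

include S

/-- The product of the three displacements along an orbit of `a`. -/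
theorem dl_orbit_map {x t : X} (ht : t ∈ T) :
    dl (a (a (a x))) t = a (a (a (dl x t))) := by
  rw [map_dl, map_dl, map_dl, S.three ht]

theorem dl_three {x t : X} (ht : t ∈ T) : dl (a (a (a x))) t = dl x t := by
  rw [S.dl_orbit_map ht, S.three (S.dl_mem ht)]

/-- If the three displacements along an orbit multiply to one then `dl x (a t) = a² (dl x t)`. -/
theorem rot {P : X → Prop} (hP : ∀ u, P u → u ∈ T) (hPa : ∀ u, P u → P (a u)) {x : X}
    (hV : ∀ u, P u → dl x u ∈ V)
    (h1 : ∀ u, P u → dl x u * dl (a x) u * dl (a (a x)) u = 1) {t : X} (ht : P t) :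
    dl x (a t) = a (a (dl x t)) := by
  have htT := hP t ht
  set p := dl x t
  set q := dl x (a t)
  have hp : p ∈ V := hV t ht
  have hq : q ∈ V := hV _ (hPa t ht)
  have hta : a (a t) = (t * a t)⁻¹ := eq_inv_of_mul_eq_one_right (S.norm htT)
  have e1 : dl (a x) t = a (dl x (a (a t))) := by rw [map_dl, S.three htT]
  have e2 : dl (a (a x)) t = a (a q) := by
    show _ = a (a (dl x (a t)))
    rw [map_dl, map_dl, S.three htT]
  have e3 : dl x (a (a t)) = p * q := by
    have h := S.dl_mul x (mul_mem htT (S.inv t htT)) (S.inv _ (S.inv t htT))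
    rw [hta, mul_inv_cancel, dl_one_right, S.dl_mul x htT (S.inv t htT), ← hta] at h
    rw [← S.mv.inv_eq (V.mul_mem hp hq)]
    exact eq_inv_of_mul_eq_one_right h.symm
  have h := h1 t ht
  rw [e1, e2, e3, map_mul] at h
  have hap := S.mv.map_mem (φ := a) hp
  have haq := S.mv.map_mem (φ := a) hq
  have hq3 : a (a q) = q * a q := by
    rw [eq_inv_of_mul_eq_one_right (S.mv.norm hq)]; exact S.mv.inv_eq (V.mul_mem hq haq)
  have hp3 : a (a p) = p * a p := by
    rw [eq_inv_of_mul_eq_one_right (S.mv.norm hp)]; exact S.mv.inv_eq (V.mul_mem hp hap)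
  rw [hq3] at h
  have h' : p * a p * q = 1 := by
    calc p * a p * q = p * a p * q * (a q * a q) := by rw [S.mv.sq _ haq, mul_one]
      _ = p * (a p * (q * a q)) * a q := by group
      _ = p * (a p * (a q * q)) * a q := by rw [S.mv.cen _ haq q]
      _ = p * (a p * a q) * (q * a q) := by group
      _ = 1 := h
  show q = _
  rw [hp3, eq_inv_of_mul_eq_one_right h']
  exact S.mv.inv_eq (V.mul_mem hp hap)

/-- The Frattini subgroup is a member of the family of invariant abelian normal subgroups. -/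
theorem exists_greater (hne : T ≠ frattini X) :
    ∃ T' : Subgroup X, Sub A a V T' ∧ T < T' := by
  haveI := S.normal
  obtain ⟨r0, hr0D, hr0T, hr0s, hr0c⟩ := exists_step S.mv.hyp.h2 (lt_of_le_of_ne S.le_frattini hne)
  let R : Subgroup X :=
    { carrier := {r | r ∈ frattini X ∧ r * r ∈ T ∧ ∀ g : X, g * r * g⁻¹ * r⁻¹ ∈ T}
      one_mem' := ⟨one_mem _, by simp, fun g => by simp⟩
      mul_mem' := fun {r s} hr hs => ⟨mul_mem hr.1 hs.1, by
        rw [show r * s * (r * s) = (r * s * r⁻¹ * s⁻¹) * (s * (r * r) * s⁻¹) * (s * s) by group]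
        exact mul_mem (mul_mem (hs.2.2 r) (S.normal.conj_mem _ hr.2.1 s)) hs.2.1, fun g => by
        rw [show g * (r * s) * g⁻¹ * (r * s)⁻¹ =
          (g * r * g⁻¹ * r⁻¹) * (r * (g * s * g⁻¹ * s⁻¹) * r⁻¹) by group]
        exact mul_mem (hr.2.2 g) (S.normal.conj_mem _ (hs.2.2 g) r)⟩
      inv_mem' := fun {r} hr => ⟨inv_mem hr.1, by rw [← mul_inv_rev]; exact inv_mem hr.2.1, fun g => by
        rw [show g * r⁻¹ * g⁻¹ * r⁻¹⁻¹ = r⁻¹ * (g * r * g⁻¹ * r⁻¹)⁻¹ * r⁻¹⁻¹ by group]
        exact S.normal.conj_mem _ (inv_mem (hr.2.2 g)) r⁻¹⟩ }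
  have hRn : R.Normal := ⟨fun r hr g => by
    rw [show g * r * g⁻¹ = g * r * g⁻¹ * r⁻¹ * r by group]
    refine mul_mem ?_ hr
    have h := hr.2.2 g
    exact ⟨S.le_frattini h, mul_mem h h, fun k => mul_mem (S.normal.conj_mem _ h k) (inv_mem h)⟩⟩
  have hTR : ∀ t ∈ T, t ∈ R := fun t ht =>
    ⟨S.le_frattini ht, mul_mem ht ht, fun g => mul_mem (S.normal.conj_mem t ht g) (inv_mem ht)⟩
  have hRa : ∀ r ∈ R, a r ∈ R := fun r hr => ⟨map_frattini a hr.1, by
    rw [← map_mul]; exact S.inv _ hr.2.1, fun g => by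
    obtain ⟨k, rfl⟩ := a.surjective g
    rw [← map_inv, ← map_inv, ← map_mul, ← map_mul, ← map_mul]
    exact S.inv _ (hr.2.2 k)⟩
  have hRsq : ∀ f ∈ R, ∀ t ∈ T, f * f * t = t * (f * f) := fun f hf t ht => S.comm _ hf.2.1 t ht
  have hRV : ∀ f ∈ R, ∀ t ∈ T, dl f t ∈ V := fun f hf t ht =>
    S.dl_mem_V (hRsq f hf) (fun u hu h4 => S.frattini_comm_four hf.1 hu h4) ht
  -- no new involutions
  have noinv : ∀ f ∈ R, f * f = 1 → f ∈ T := by
    intro f hf hff
    refine S.le (mem_of_involution S.mv.hyp.hS S.mv.card S.mv.cen S.mv.sq hff fun g => ?_)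
    set τ := g * f * g⁻¹ * f⁻¹ with hτ
    have hτT : τ ∈ T := hf.2.2 g
    have h1 : f * τ * f⁻¹ = τ⁻¹ := by
      have e : f⁻¹ = f := inv_eq_of_mul_eq_one_right hff
      refine eq_inv_of_mul_eq_one_right ?_
      calc τ * (f * τ * f⁻¹) = (g * f * g⁻¹) * (g * f * g⁻¹) * (f⁻¹ * f⁻¹) := by rw [hτ]; group
        _ = g * (f * f) * g⁻¹ * (f * f)⁻¹ := by group
        _ = 1 := by rw [hff]; group
    have h2 : dl f τ = τ⁻¹ * τ⁻¹ := by rw [dl, h1]
    have h3 := hRV f hf τ hτT
    rw [h2, ← mul_inv_rev] at h3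
    have h4 : τ * τ * (τ * τ) = 1 := by
      have := S.mv.sq _ h3
      rwa [← mul_inv_rev, inv_eq_one] at this
    rw [S.frattini_comm_four hf.1 hτT h4, mul_inv_cancel_right] at h1
    exact S.omega hτT (mul_eq_one_iff_eq_inv.mpr h1)
  -- an element with invariant kernel centralizes `T`
  have adjust : T ≠ V → ∀ f ∈ R, (∀ u ∈ T, dl f u = 1 → dl f (a u) = 1) → ∀ u ∈ T, dl f u = 1 := by
    intro hTV f hf hinv u hu
    by_contra hu1
    have hff : dl f (f * f) = 1 := dl_eq_one.mpr (by group)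
    obtain ⟨s, hs, hss⟩ : ∃ s ∈ T, f * f = s * s := by
      by_contra hno
      push_neg at hno
      exact hu1 (S.eq_one_of_ker (hRV f hf) hinv hf.2.1 hno hff u hu)
    set v := dl f s⁻¹ with hvdef
    have hv : v ∈ V := hRV f hf _ (inv_mem hs)
    have e1 : f * s⁻¹ = s⁻¹ * v * f := by
      have := conj_eq_dl f s⁻¹
      rw [mul_inv_eq_iff_eq_mul] at this
      exact this
    have e2 : (f * s⁻¹) * (f * s⁻¹) = v := by
      calc (f * s⁻¹) * (f * s⁻¹) = s⁻¹ * v * (f * s⁻¹) * (v * f) := by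
            conv_lhs => rw [e1]
            conv_rhs => rw [e1]
            rw [show s⁻¹ * v * f * (s⁻¹ * v * f) = s⁻¹ * v * (f * s⁻¹) * (v * f) by group, e1]
        _ = s⁻¹ * v * (s⁻¹ * v * f) * (v * f) := by rw [e1]
        _ = s⁻¹ * (v * s⁻¹) * (v * (f * v) * f) := by group
        _ = s⁻¹ * (s⁻¹ * v) * (v * (v * f) * f) := by rw [S.mv.cen v hv f, S.mv.cen v hv s⁻¹]
        _ = s⁻¹ * s⁻¹ * ((v * v) * v) * (f * f) := by group
        _ = s⁻¹ * (s⁻¹ * v) * (f * f) := by rw [S.mv.sq v hv, one_mul, mul_assoc s⁻¹]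
        _ = s⁻¹ * (v * s⁻¹) * (s * s) := by rw [hss, S.mv.cen v hv s⁻¹]
        _ = s⁻¹ * (v * s) := by group
        _ = v := by rw [← S.mv.cen v hv s, inv_mul_cancel_left]
    obtain ⟨s', hs', hs'v⟩ := S.exists_root hTV hv
    have hc : f * s' = s' * f := S.frattini_comm_four hf.1 hs' (by rw [hs'v, S.mv.sq v hv])
    have he : f * s⁻¹ * s' ∈ R := mul_mem (mul_mem hf (inv_mem (hTR s hs))) (hTR s' hs')
    have hee : f * s⁻¹ * s' * (f * s⁻¹ * s') = 1 := by
      calc f * s⁻¹ * s' * (f * s⁻¹ * s') = f * s⁻¹ * ((s' * f) * s⁻¹) * s' := by group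
        _ = f * s⁻¹ * (f * (s⁻¹ * s')) * s' := by
          rw [← hc, mul_assoc f s', S.comm s' hs' _ (inv_mem hs)]
        _ = (f * s⁻¹) * (f * s⁻¹) * (s' * s') := by group
        _ = 1 := by rw [e2, hs'v, S.mv.sq v hv]
    have hfT : f ∈ T := by
      have h := noinv _ he hee
      rwa [mul_assoc, T.mul_mem_cancel_right (mul_mem (inv_mem hs) hs')] at h
    exact hu1 (dl_eq_one.mpr (S.comm f hfT u hu))
  -- `R` centralizes `T`
  have hRT : ∀ f ∈ R, ∀ t ∈ T, f * t = t * f := by
    intro f hf t ht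
    by_cases hTV : T = V
    · exact S.mv.cen t (hTV ▸ ht) f
    refine dl_eq_one.mp (adjust hTV f hf (fun u hu h1 => ?_) t ht)
    set w := f * a f * a (a f) with hw
    have hwR : w ∈ R := mul_mem (mul_mem hf (hRa f hf)) (hRa _ (hRa f hf))
    have hsplit : ∀ u ∈ T, dl w u = dl f u * dl (a f) u * dl (a (a f)) u := fun u hu => by
      rw [hw, S.dl_prod _ _ (hRV _ (hRa _ (hRa f hf)) u hu), S.dl_prod _ _ (hRV _ (hRa f hf) u hu)]
    have heq : ∀ u ∈ T, dl w (a u) = a (dl w u) := fun u hu => by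
      rw [hsplit _ (S.inv u hu), hsplit u hu, map_mul, map_mul, map_dl, map_dl, map_dl,
        S.dl_three (S.inv u hu), S.mv.cen _ (hRV f hf _ (S.inv u hu)) (dl (a f) (a u) * dl (a (a f)) (a u)),
        mul_assoc]
    have hw1 : ∀ u ∈ T, dl w u = 1 := adjust hTV w hwR fun u hu h => by rw [heq u hu, h, map_one]
    have hr := S.rot (P := fun u => u ∈ T) (fun u h => h) S.inv (hRV f hf)
      (fun u hu => (hsplit u hu).symm.trans (hw1 u hu)) hu
    rw [hr, h1, map_one, map_one]
  -- commutators inside `R`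
  have hRR : ∀ r ∈ R, ∀ s ∈ R, r * s * r⁻¹ * s⁻¹ ∈ V := by
    intro r hr s hs
    set c := r * s * r⁻¹ * s⁻¹ with hc
    have hcT : c ∈ T := hs.2.2 r
    refine S.omega hcT ?_
    have h1 : r * (s * s) * r⁻¹ = s * s := by rw [hRT r hr _ hs.2.1, mul_inv_cancel_right]
    have h2 : r * (s * s) * r⁻¹ = c * c * (s * s) := by
      calc r * (s * s) * r⁻¹ = c * (s * c) * s := by rw [hc]; group
        _ = _ := by rw [hRT s hs c hcT]; group
    exact mul_eq_right.mp (h2.symm.trans h1)
  by_cases hTV : T = V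
  · have hcomm : ∀ r ∈ R, ∀ s ∈ R, r * s = s * r := by
      intro r hr s hs
      haveI := hRn
      have hle : frattini X ≤ Subgroup.centralizer (R : Set X) := by
        refine frattini_le_of_squares Subgroup.normal_centralizer fun x => ?_
        refine mem_centralizer_iff.mpr fun u hu => ?_
        set δ := x * u * x⁻¹ * u⁻¹ with hδ
        have hδV : δ ∈ V := hTV ▸ hu.2.2 x
        have h : x * x * u * (x * x)⁻¹ = u := by
          calc x * x * u * (x * x)⁻¹ = x * δ * x⁻¹ * δ * u := by rw [hδ]; group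
            _ = δ * δ * u := by rw [S.mv.cen δ hδV x, mul_inv_cancel_right]
            _ = u := by rw [S.mv.sq δ hδV, one_mul]
        exact (mul_inv_eq_iff_eq_mul.mp h).symm
      exact (mem_centralizer_iff.mp (hle hr.1) s hs).symm
    refine ⟨R, ⟨S.mv, hRn, hcomm, hRa, fun v hv => hTR v (S.le hv), fun r hr => hr.1⟩, ?_⟩
    exact lt_of_le_of_ne hTR fun e => hr0T (e ▸ (⟨hr0D, hr0s, hr0c⟩ : r0 ∈ R))
  -- `a³` fixes the cosets of `T` in `R`
  have hψ : ∀ r ∈ R, r⁻¹ * a (a (a r)) ∈ T := by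
    intro r hr
    set y := r⁻¹ * a (a (a r)) with hy
    have hyR : y ∈ R := mul_mem (inv_mem hr) (hRa _ (hRa _ (hRa r hr)))
    have hk := hRR y hyR r hr
    set k := y * r * y⁻¹ * r⁻¹ with hkdef
    have hey : a (a (a r)) = r * y := by rw [hy, mul_inv_cancel_left]
    have h1 : r * y * (r * y) = r * r := by
      rw [← hey, ← map_mul, ← map_mul, ← map_mul, S.three hr.2.1]
    have h2 : y * y = k := by
      have h3 : r * y * (r * y) = r * r * (y * y * k) := by
        calc r * y * (r * y) = r * (k * (r * (y * y))) := by rw [hkdef]; group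
          _ = r * (r * (y * y) * k) := by rw [← S.mv.cen k hk (r * (y * y))]
          _ = _ := by group
      rw [h3, mul_eq_left] at h1
      rw [eq_inv_of_mul_eq_one_left h1, S.mv.inv_eq hk]
    obtain ⟨s, hs, hsv⟩ := S.exists_root hTV hk
    have he : y * s⁻¹ * (y * s⁻¹) = 1 := by
      calc y * s⁻¹ * (y * s⁻¹) = y * (s⁻¹ * y) * s⁻¹ := by group
        _ = y * y * (s * s)⁻¹ := by rw [← hRT y hyR _ (inv_mem hs)]; group
        _ = 1 := by rw [h2, hsv, mul_inv_cancel]
    have h := noinv _ (mul_mem hyR (inv_mem (hTR s hs))) he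
    rwa [T.mul_mem_cancel_right (inv_mem hs)] at h
  -- no fixed cosets
  have hfix : ∀ r ∈ R, r⁻¹ * a r ∈ T → r ∈ T := by
    intro r hr h
    obtain ⟨s, hs, hst⟩ := S.lift h h (S.inv _ h)
    have e : a (r * s) = r * s := by
      conv_rhs => rw [← hst]
      rw [map_mul]; group
    have hrs : r * s ∈ R := mul_mem hr (hTR s hs)
    have h1 := S.fixed_eq_one hrs.2.1 (by rw [map_mul, e])
    have h2 := noinv _ hrs h1
    rwa [T.mul_mem_cancel_right hs] at h2
  set r := r0
  have hr : r ∈ R := ⟨hr0D, hr0s, hr0c⟩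
  set u := a r with hu
  set w := a u with hw
  have huR : u ∈ R := hRa r hr
  have hwR : w ∈ R := hRa u huR
  set τ := r * u * w with hτ
  have hτT : τ ∈ T := by
    refine hfix τ (mul_mem (mul_mem hr huR) hwR) ?_
    have hy := hψ r hr
    set y := r⁻¹ * a (a (a r)) with hydef
    have e : a τ = u * w * r * y := by
      rw [hτ, map_mul, map_mul, hydef]
      show u * w * a (a (a r)) = _
      group
    have hk := hRR (u * w) (mul_mem huR hwR) r hr
    set k := u * w * r * (u * w)⁻¹ * r⁻¹ with hkdef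
    have e2 : a τ = k * τ * y := by rw [e, hkdef, hτ]; group
    rw [e2, show τ⁻¹ * (k * τ * y) = τ⁻¹ * (k * τ) * y by group, ← S.mv.cen k hk τ, inv_mul_cancel_left]
    exact mul_mem (S.le hk) hy
  have hc : r * u = u * r := by
    set c := r * u * r⁻¹ * u⁻¹ with hc
    have hcV : c ∈ V := hRR r hr u huR
    have hwe : w = u⁻¹ * r⁻¹ * τ := by rw [hτ]; group
    have hac : a c = c := by
      rw [hc, map_mul, map_mul, map_mul, map_inv, map_inv]
      show u * w * u⁻¹ * w⁻¹ = c
      calc u * w * u⁻¹ * w⁻¹ = r⁻¹ * (τ * u⁻¹) * τ⁻¹ * (r * u) := by rw [hwe]; group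
        _ = r⁻¹ * u⁻¹ * (r * u) := by rw [← hRT u⁻¹ (inv_mem huR) τ hτT]; group
        _ = r⁻¹ * u⁻¹ * (c * (u * r)) := by rw [hc]; group
        _ = r⁻¹ * u⁻¹ * ((u * r) * c) := by rw [← S.mv.cen c hcV (u * r)]
        _ = c := by group
    have h1 := S.mv.move c hcV hac
    rw [hc, mul_inv_eq_one, mul_inv_eq_iff_eq_mul] at h1
    exact h1
  set B := Subgroup.closure (insert r (insert u (T : Set X))) with hB
  have hBR : B ≤ R := by
    rw [hB, Subgroup.closure_le]
    rintro x (rfl | rfl | hx)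
    exacts [hr, huR, hTR x hx]
  have hTB : T ≤ B := fun t ht => subset_closure (by simp [ht])
  have hBc : ∀ x ∈ B, ∀ y ∈ B, x * y = y * x := by
    have hcl : IsMulCommutative B := Subgroup.isMulCommutative_closure (by
      intro x hx y hy
      simp only [Set.mem_insert_iff, SetLike.mem_coe] at hx hy
      rcases hx with rfl | rfl | hx <;> rcases hy with rfl | rfl | hy
      all_goals first
        | rfl
        | exact hc
        | exact hc.symm
        | exact hRT _ hr _ hy
        | exact hRT _ huR _ hy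
        | exact (hRT _ hr _ hx).symm
        | exact (hRT _ huR _ hx).symm
        | exact S.comm _ hx _ hy)
    exact fun x hx y hy => congrArg Subtype.val (hcl.is_comm.comm ⟨x, hx⟩ ⟨y, hy⟩)
  refine ⟨B, ⟨S.mv, ⟨fun x hx g => ?_⟩, hBc, ?_, S.le.trans hTB, fun x hx => (hBR hx).1⟩, ?_⟩
  · rw [show g * x * g⁻¹ = g * x * g⁻¹ * x⁻¹ * x by group]
    exact mul_mem (hTB ((hBR hx).2.2 g)) hx
  · have : B ≤ B.comap a.toMonoidHom := by
      rw [hB, Subgroup.closure_le]
      rintro x (rfl | rfl | hx)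
      · exact subset_closure (Set.mem_insert_of_mem _ (Set.mem_insert _ _))
      · show w ∈ B
        rw [show w = u⁻¹ * r⁻¹ * τ by rw [hτ]; group]
        exact mul_mem (mul_mem (inv_mem (subset_closure (by simp)))
          (inv_mem (subset_closure (by simp)))) (hTB hτT)
      · exact subset_closure (by simp [show a x ∈ T from S.inv x hx])
    exact fun t ht => this ht
  · exact lt_of_le_of_ne hTB fun e => hr0T (e ▸ (subset_closure (by simp) : r ∈ B))

end Sub

/-- The Frattini subgroup is abelian and invariant. -/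
theorem Moved.frattini_sub (M : Moved A a V) : Sub A a V (frattini X) := by
  obtain ⟨T, hT, hmax⟩ := Set.Finite.exists_maximal (Set.toFinite {T : Subgroup X | Sub A a V T})
    ⟨V, ⟨M, M.normal, fun s _ t ht => M.cen t ht s, fun t ht => M.map_mem ht, le_rfl, M.le⟩⟩
  by_cases h : T = frattini X
  · exact h ▸ hT
  · obtain ⟨T', hT', hlt⟩ := Sub.exists_greater hT h
    exact absurd (hmax hT' hlt.le) (not_le_of_gt hlt)

end CfsgLib.LocalEvenB.NoNormalEight
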