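import Cfsg.Agent.Lib.LocalEvenB.NoNormalEight.MovedFrattini

/-!
# In the moved case the group is special of order `64`
-/

set_option autoImplicit false

namespace CfsgLib.LocalEvenB.NoNormalEight

open Subgroup
open CfsgLib.LocalEvenB.SelfCentralEight.Sections CfsgLib.LocalEvenB.SelfCentralEight.Conj

variable {X : Type*} [Group X] [Finite X] {A : Subgroup (MulAut X)} {a : MulAut X} {V : Subgroup X}

/-- A covering by `D` and the orbit of `x` under `a` makes the group abelian. -/
theorem Moved.not_cover (M : Moved A a V) (hc : ∀ d ∈ frattini X, ∀ g : X, g * d = d * g)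
    (hcom : ∀ x y : X, x * y * x⁻¹ * y⁻¹ ∈ V) {x : X} (hx : x * a x * a (a x) ∈ frattini X)
    (hcov : ∀ y : X, y ∈ frattini X ∨ x⁻¹ * y ∈ frattini X ∨ (a x)⁻¹ * y ∈ frattini X ∨
      (a (a x))⁻¹ * y ∈ frattini X) : False := by
  set τ := x * a x * a (a x) with hτ
  set u := a x with hu
  set w := a u with hw
  have hwe : w = u⁻¹ * x⁻¹ * τ := by rw [hτ]; group
  set c := x * u * x⁻¹ * u⁻¹ with hcdef
  have hcV : c ∈ V := hcom x u
  have hac : a c = c := by
    rw [hcdef, map_mul, map_mul, map_mul, map_inv, map_inv]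
    show u * w * u⁻¹ * w⁻¹ = c
    calc u * w * u⁻¹ * w⁻¹ = x⁻¹ * (u⁻¹ * τ) * τ⁻¹ * (x * u) := by
          rw [hc τ hx u⁻¹, hwe]; group
      _ = x⁻¹ * u⁻¹ * (c * (u * x)) := by rw [hcdef]; group
      _ = x⁻¹ * u⁻¹ * ((u * x) * c) := by rw [← M.cen c hcV (u * x)]
      _ = c := by group
  have hxu : x * u = u * x := by
    have h1 := M.move c hcV hac
    rw [hcdef, mul_inv_eq_one, mul_inv_eq_iff_eq_mul] at h1
    exact h1
  set B := Subgroup.closure (insert x (insert u (frattini X : Set X))) with hB
  have hBtop : ∀ y, y ∈ B := by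
    intro y
    have hxB : x ∈ B := subset_closure (Set.mem_insert _ _)
    have huB : u ∈ B := subset_closure (Set.mem_insert_of_mem _ (Set.mem_insert _ _))
    have hD : ∀ d ∈ frattini X, d ∈ B := fun d hd =>
      subset_closure (Set.mem_insert_of_mem _ (Set.mem_insert_of_mem _ hd))
    have key : ∀ g ∈ B, g⁻¹ * y ∈ frattini X → y ∈ B := fun g hg h => by
      simpa using mul_mem hg (hD _ h)
    rcases hcov y with h | h | h | h
    · exact hD y h
    · exact key x hxB h
    · exact key u huB h
    · refine key w ?_ h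
      rw [hwe]; exact mul_mem (mul_mem (inv_mem huB) (inv_mem hxB)) (hD _ hx)
  have hcl : IsMulCommutative B := Subgroup.isMulCommutative_closure (by
    intro p hp q hq
    simp only [Set.mem_insert_iff, SetLike.mem_coe] at hp hq
    rcases hp with rfl | rfl | hp <;> rcases hq with rfl | rfl | hq
    all_goals first
      | rfl
      | exact hxu
      | exact hxu.symm
      | exact hc _ hq _
      | exact (hc _ hp _).symm)
  exact M.hyp.hna ⟨⟨fun p q => congrArg Subtype.val (hcl.is_comm.comm ⟨p, hBtop p⟩ ⟨q, hBtop q⟩)⟩⟩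

/-- Elements of the Frattini subgroup of order dividing four satisfy the orbit identity. -/
theorem Moved.avg (M : Moved A a V) (P : X → Prop) (hP : ∀ u, P u → u ∈ frattini X)
    (hPφ : ∀ (φ : MulAut X) u, P u → P (φ u)) (hV : ∀ x u, P u → dl x u ∈ V) (x : X) :
    ∀ u, P u → dl x u * dl (a x) u * dl (a (a x)) u = 1 := by
  have S := M.frattini_sub
  have hcm : ∀ {v : X}, v ∈ V → ∀ g : X, g * v = v * g := fun hv g => M.cen _ hv g
  let N : Subgroup X :=
    { carrier := {g | ∀ u, P u → dl g u * dl (a g) u * dl (a (a g)) u = 1}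
      one_mem' := fun u _ => by simp [dl]
      mul_mem' := fun {g h} hg hh u hu => by
        rw [map_mul, map_mul, S.dl_prod g h (hV h u hu), S.dl_prod (a g) (a h) (hV _ u hu),
          S.dl_prod (a (a g)) (a (a h)) (hV _ u hu)]
        calc dl g u * dl h u * (dl (a g) u * dl (a h) u) * (dl (a (a g)) u * dl (a (a h)) u)
            = dl g u * (dl h u * dl (a g) u) * (dl (a h) u * dl (a (a g)) u) * dl (a (a h)) u := by group
          _ = dl g u * (dl (a g) u * dl h u) * (dl (a (a g)) u * dl (a h) u) * dl (a (a h)) u := by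
              rw [hcm (hV (a g) u hu) (dl h u), hcm (hV (a (a g)) u hu) (dl (a h) u)]
          _ = dl g u * dl (a g) u * (dl h u * dl (a (a g)) u) * dl (a h) u * dl (a (a h)) u := by group
          _ = dl g u * dl (a g) u * (dl (a (a g)) u * dl h u) * dl (a h) u * dl (a (a h)) u := by
              rw [hcm (hV (a (a g)) u hu) (dl h u)]
          _ = (dl g u * dl (a g) u * dl (a (a g)) u) * (dl h u * dl (a h) u * dl (a (a h)) u) := by group
          _ = 1 := by rw [hg u hu, hh u hu, one_mul]
      inv_mem' := fun {g} hg u hu => by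
        have e : ∀ y : X, dl y⁻¹ u = dl y u := fun y => by
          have h := S.dl_prod y y⁻¹ (hV y⁻¹ u hu)
          rw [mul_inv_cancel, show dl (1 : X) u = 1 by simp [dl]] at h
          rw [eq_inv_of_mul_eq_one_right h.symm, M.inv_eq (hV y u hu)]
        rw [map_inv, map_inv, e, e, e]; exact hg u hu }
  refine mem_of_gen M.hyp.hg (N := N) (fun φ hφ g => ?_) x
  intro u hu
  -- `φ` agrees on the Frattini subgroup with a power of `a`
  obtain ⟨v, hv, hv1⟩ : ∃ v ∈ V, v ≠ 1 := by
    have : V ≠ ⊥ := fun e => by have := M.card; rw [e, Subgroup.card_bot] at this; norm_num at this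
    obtain ⟨⟨v, hv⟩, h⟩ := Subgroup.ne_bot_iff_exists_ne_one.mp this
    exact ⟨v, hv, fun e => h (Subtype.ext e)⟩
  have agree : ∀ θ ∈ A, φ v = θ v → ∀ d ∈ frattini X, φ d = θ d := by
    intro θ hθ e d hd
    have hψ : θ⁻¹ * φ ∈ A := mul_mem (inv_mem hθ) hφ
    have hv' : (θ⁻¹ * φ) v = v := by
      show θ.symm (φ v) = v
      rw [e, MulEquiv.symm_apply_apply]
    have h := S.fix_invariant hψ (fun t ht => map_frattini _ ht) (fun w hw =>
      fix_small (odd_order M.hyp.hA hψ) M.card.le (fun z hz => M.map_mem hz) M.sq hv hv1 hv' w hw) d hd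
    have h2 : θ.symm (φ d) = d := h
    exact θ.symm_apply_eq.mp h2
  have trans : ∀ θ : MulAut X, (∀ d ∈ frattini X, φ d = θ d) → ∀ (η : MulAut X) (y : X) (u : X),
      P u → dl (η (φ y)) u = dl (η (θ y)) u := by
    intro θ hθ η y u hu
    obtain ⟨u', rfl⟩ : ∃ u', u = η (φ u') := ⟨φ.symm (η.symm u), by simp⟩
    have hu' : u' ∈ frattini X := by
      have := map_frattini φ.symm (map_frattini η.symm (hP _ hu))
      simpa using this
    conv_rhs => rw [hθ u' hu']
    rw [← map_dl, ← map_dl, ← map_dl, ← map_dl, hθ _ (S.dl_mem hu')]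
  have h3 : ∀ y, dl (a (a (a y))) u = dl y u := fun y => S.dl_three (hP u hu)
  have hgi : ∀ η : MulAut X, dl (η (g⁻¹ * φ g)) u = dl (η g) u * dl (η (φ g)) u := fun η => by
    have h := S.dl_prod (η g) (η g⁻¹) (hV _ u hu)
    rw [← map_mul, mul_inv_cancel, map_one, show dl (1 : X) u = 1 by simp [dl]] at h
    rw [map_mul, S.dl_prod _ _ (hV _ u hu), eq_inv_of_mul_eq_one_right h.symm, M.inv_eq (hV _ u hu)]
  rw [show dl (g⁻¹ * φ g) u = dl g u * dl (φ g) u from hgi 1, hgi a,
    show dl (a (a (g⁻¹ * φ g))) u = dl (a (a g)) u * dl (a (a (φ g))) u from hgi (a * a)]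
  set p0 := dl g u
  set p1 := dl (a g) u
  set p2 := dl (a (a g)) u
  have h0 : p0 ∈ V := hV _ u hu
  have h1 : p1 ∈ V := hV _ u hu
  have h2 : p2 ∈ V := hV _ u hu
  haveI : IsMulCommutative V := ⟨⟨fun s t => Subtype.ext (M.cen _ t.2 s)⟩⟩
  rcases M.cases hv hv1 (M.map_mem (φ := φ) hv) with e | e | e | e
  · exact absurd (φ.injective (e.trans (map_one φ).symm)) hv1
  · have t := trans 1 (agree 1 (one_mem A) e)
    rw [show dl (φ g) u = p0 from t 1 g u hu, show dl (a (φ g)) u = p1 from t a g u hu,
      show dl (a (a (φ g))) u = p2 from t (a * a) g u hu, M.sq _ h0, M.sq _ h1, M.sq _ h2, one_mul, one_mul]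
  · have t := trans a (agree a M.ha e)
    rw [show dl (φ g) u = p1 from t 1 g u hu, show dl (a (φ g)) u = p2 from t a g u hu,
      show dl (a (a (φ g))) u = p0 from (t (a * a) g u hu).trans (h3 g)]
    calc p0 * p1 * (p1 * p2) * (p2 * p0) = p0 * (p1 * p1) * (p2 * p2) * p0 := by group
      _ = 1 := by rw [M.sq _ h1, M.sq _ h2, mul_one, mul_one, M.sq _ h0]
  · have t := trans (a * a) (agree (a * a) (mul_mem M.ha M.ha) e)
    rw [show dl (φ g) u = p2 from t 1 g u hu,
      show dl (a (φ g)) u = p0 from (t a g u hu).trans (h3 g),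
      show dl (a (a (φ g))) u = p1 from (t (a * a) g u hu).trans (h3 (a g))]
    calc p0 * p2 * (p1 * p0) * (p2 * p1) = p0 * (p2 * p1) * p0 * (p2 * p1) := by group
      _ = p0 * p0 * (p2 * p1) * (p2 * p1) := by rw [M.cen p0 h0 (p0 * (p2 * p1))]; group
      _ = 1 := by rw [M.sq _ h0, one_mul, M.sq _ (V.mul_mem h2 h1)]

/-- In the moved case the Frattini subgroup is `V`. -/
theorem Moved.frattini_eq (M : Moved A a V) : frattini X = V := by
  have S := M.frattini_sub
  set D := frattini X with hD
  by_contra hne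
  have hxx : ∀ x : X, ∀ t ∈ D, x * x * t = t * (x * x) := fun x t ht =>
    S.comm _ (sq_mem_frattini M.hyp.h2 x) t ht
  let P : X → Prop := fun u => u ∈ D ∧ u * u * (u * u) = 1
  have hPV : ∀ y u, P u → dl y u ∈ V := fun y u hu => S.dl_mem_of_four y hu.1 hu.2
  have hPa : ∀ (φ : MulAut X) u, P u → P (φ u) := fun φ u hu => ⟨map_frattini φ hu.1, by
    rw [← map_mul, ← map_mul, hu.2, map_one]⟩
  have avgP := M.avg P (fun u hu => hu.1) hPa hPV
  -- a moved element of order four forces exponent four
  have hexp : ∀ x s, P s → dl x s ≠ 1 → ∀ d ∈ D, d * d * (d * d) = 1 := by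
    intro x s hs hds
    have hr : ∀ u, P u → dl x (a u) = a (a (dl x u)) := fun u hu =>
      S.rot (fun u hu => hu.1) (hPa a) (hPV x) (avgP x) hu
    have hinj : ∀ u, P u → dl x u = 1 → u * u = 1 := by
      intro u hu h1
      by_contra huu
      apply hds
      have h2 : dl x (a u) = 1 := by rw [hr u hu, h1, map_one, map_one]
      have h3 : dl x (a (a u)) = 1 := by rw [hr _ (hPa a u hu), h2, map_one, map_one]
      have huV : u * u ∈ V := S.omega (mul_mem hu.1 hu.1) hu.2
      have hsV : s * s ∈ V := S.omega (mul_mem hs.1 hs.1) hs.2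
      obtain ⟨w, hwD, hw1, hww⟩ : ∃ w ∈ D, dl x w = 1 ∧ s * s = w * w := by
        rcases M.cases huV huu hsV with e | e | e | e
        · exact ⟨1, one_mem D, Sub.dl_one_right x, by rw [e, mul_one]⟩
        · exact ⟨u, hu.1, h1, e⟩
        · exact ⟨a u, S.inv u hu.1, h2, by rw [e, map_mul]⟩
        · exact ⟨a (a u), S.inv _ (S.inv u hu.1), h3, by rw [e, map_mul, map_mul]⟩
      have hv : s * w⁻¹ ∈ V := S.omega (mul_mem hs.1 (inv_mem hwD)) (by
        calc s * w⁻¹ * (s * w⁻¹) = s * (w⁻¹ * s) * w⁻¹ := by group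
          _ = s * s * (w * w)⁻¹ := by rw [S.comm _ (inv_mem hwD) s hs.1]; group
          _ = 1 := by rw [hww, mul_inv_cancel])
      have e : s = (s * w⁻¹) * w := by group
      rw [e, S.dl_mul x (S.le hv) hwD, hw1, mul_one, dl_eq_one]
      exact M.cen _ hv x
    have key : ∀ e ∈ D, e * e * (e * e) ∈ V → dl x (e * e) = e * e * (e * e) := by
      intro e he he8
      have hee : P (e * e) := ⟨mul_mem he he, M.sq _ he8⟩
      set δ := dl x e with hδ
      have hδD : δ ∈ D := S.dl_mem he
      have hδ2 : δ * δ = dl x (e * e) := (S.dl_mul x he he).symm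
      have hδV : δ * δ ∈ V := hδ2 ▸ hPV x _ hee
      have hδP : P δ := ⟨hδD, M.sq _ hδV⟩
      have h1 : dl x δ = δ * δ := by
        rw [dl, S.dl_inverted he (hxx x e he), ← mul_inv_rev]; exact M.inv_eq hδV
      have h2 : dl x (δ * (e * e)) = 1 := by
        rw [S.dl_mul x hδD hee.1, h1, ← hδ2, M.sq _ hδV]
      have hcomm : δ * (e * e) * (δ * (e * e)) = δ * δ * (e * e * (e * e)) := by
        rw [mul_assoc δ, ← mul_assoc (e * e) δ, S.comm _ hee.1 δ hδD]; group
      have hP' : P (δ * (e * e)) := ⟨mul_mem hδD hee.1, by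
        rw [hcomm]; exact M.sq _ (V.mul_mem hδV he8)⟩
      have h3 := hinj _ hP' h2
      rw [hcomm] at h3
      rw [← hδ2, eq_inv_of_mul_eq_one_left h3, M.inv_eq he8]
    intro d hd
    obtain ⟨k, hk⟩ := M.hyp.h2 d
    induction k generalizing d with
    | zero => simp only [pow_zero, pow_one] at hk; simp [hk]
    | succ k ih =>
      have h := ih (d * d) (mul_mem hd hd) (by rw [← pow_two, ← pow_mul, ← pow_succ']; exact hk)
      have hV4 : d * d * (d * d) ∈ V := S.omega (mul_mem (mul_mem hd hd) (mul_mem hd hd)) h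
      have hV4' : a d * a d * (a d * a d) ∈ V := by
        rw [← map_mul, ← map_mul]; exact M.map_mem hV4
      have h1 := key (a d) (S.inv d hd) hV4'
      rw [← map_mul, ← map_mul, hr (d * d) ⟨mul_mem hd hd, h⟩, key d hd hV4] at h1
      exact M.move _ hV4 (a.injective h1)
  -- all displacements lie in `V`
  have hDV : ∀ x, ∀ d ∈ D, dl x d ∈ V := by
    intro x d hd
    by_cases h4 : ∀ t ∈ D, t * t * (t * t) = 1 → x * t = t * x
    · exact S.dl_mem_V (hxx x) h4 hd
    · push_neg at h4
      obtain ⟨s, hs, hs4, hxs⟩ := h4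
      exact hPV x d ⟨hd, hexp x s ⟨hs, hs4⟩ (fun e => hxs (dl_eq_one.mp e)) d hd⟩
  have avgD := M.avg (fun u => u ∈ D) (fun u hu => hu) (fun φ u hu => map_frattini φ hu)
    fun y u hu => hDV y u hu
  obtain ⟨Q, hQn, hQD, hQ⟩ := S.exists_sqs
  -- squares of the Frattini subgroup cannot be everything
  have hnot : ¬ D ≤ Q := by
    intro hle
    obtain ⟨z, hzD, hz1, hzz, -⟩ := M.hyp.exists_omega
    let f : D → D := fun w => ⟨(w : X) * w, mul_mem w.2 w.2⟩
    have hsurj : Function.Surjective f := fun w => by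
      obtain ⟨v, hv, e⟩ := (hQ _).mp (hle w.2)
      exact ⟨⟨v, hv⟩, Subtype.ext e.symm⟩
    have hinj := (Finite.injective_iff_surjective (f := f)).mpr hsurj
    exact hz1 (congrArg Subtype.val (hinj (a₁ := ⟨z, hzD⟩) (a₂ := 1) (Subtype.ext (by
      show z * z = 1 * 1; rw [hzz, one_mul]))))
  -- the Frattini subgroup is central
  have hcen : ∀ d ∈ D, ∀ g : X, g * d = d * g := by
    by_contra hn
    push_neg at hn
    obtain ⟨d0, hd0, g0, hg0⟩ := hn
    set C := Subgroup.centralizer (D : Set X) with hC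
    have hout : ∀ x, x ∉ C → x * x ∈ Q := by
      intro x hx
      by_contra hno
      apply hx
      have h1 : dl x (x * x) = 1 := dl_eq_one.mpr (by group)
      have h := S.eq_one_of_ker (fun u hu => hDV x u hu) (fun u hu h1 => by
        rw [S.rot (fun u hu => hu) (fun u hu => S.inv u hu) (fun u hu => hDV x u hu) (avgD x) hu, h1,
          map_one, map_one]) (sq_mem_frattini M.hyp.h2 x)
        (fun w hw e => hno ((hQ _).mpr ⟨w, hw, e⟩)) h1
      exact mem_centralizer_iff.mpr fun u hu => (dl_eq_one.mp (h u hu)).symm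
    obtain ⟨p, hp⟩ : ∃ p, p ∉ C := ⟨g0, fun h => hg0 (mem_centralizer_iff.mp h d0 hd0).symm⟩
    haveI : C.Normal := Subgroup.normal_centralizer
    obtain ⟨q, hq, hpq⟩ : ∃ q, q ∉ C ∧ p * q ∉ C := by
      by_contra hno
      push_neg at hno
      have hall : ∀ s t : X, s ∉ C → t ∉ C → s * t ∈ C := fun s t hs ht => by
        have h1 : s * p ∈ C := by
          have := Subgroup.Normal.conj_mem (H := C) inferInstance _ (hno s hs) p⁻¹
          simpa [mul_assoc] using this
        have h2 : p * t ∈ C := hno t ht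
        have h3 : p * p ∈ C := hno p hp
        have : s * t = (s * p) * (p * p)⁻¹ * (p * t) := by group
        rw [this]; exact mul_mem (mul_mem h1 (inv_mem h3)) h2
      apply hp
      refine mem_of_gen M.hyp.hg (N := C) (fun φ _ g => ?_) p
      by_cases hg : g ∈ C
      · refine mul_mem (inv_mem hg) (mem_centralizer_iff.mpr fun u hu => ?_)
        obtain ⟨u', rfl⟩ := φ.surjective u
        rw [← map_mul, ← map_mul,
          mem_centralizer_iff.mp hg u' (by simpa using map_frattini φ.symm hu)]
      · refine hall _ _ (fun h => hg (by simpa using inv_mem h)) fun h => hg ?_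
        refine mem_centralizer_iff.mpr fun u hu => φ.injective ?_
        rw [map_mul, map_mul, mem_centralizer_iff.mp h (φ u) (map_frattini φ hu)]
    apply hnot
    refine frattini_le_of_squares hQn fun c => ?_
    by_cases hc : c ∈ C
    swap
    · exact hout c hc
    have hinv' : ∀ g, g ∉ C → (QuotientGroup.mk' Q g) * QuotientGroup.mk' Q g = 1 := fun g hg => by
      rw [← map_mul]; exact (QuotientGroup.eq_one_iff _).mpr (hout g hg)
    have e1 := hinv' p hp
    have e2 := hinv' q hq
    have e3 := hinv' (p * q) hpq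
    have e4 := hinv' (p * c) (fun h => hp ((C.mul_mem_cancel_right hc).mp h))
    have e5 := hinv' (q * c) (fun h => hq ((C.mul_mem_cancel_right hc).mp h))
    have e6 := hinv' (p * q * c) (fun h => hpq ((C.mul_mem_cancel_right hc).mp h))
    simp only [map_mul] at e3 e4 e5 e6
    rw [← QuotientGroup.eq_one_iff, ← QuotientGroup.mk'_apply, map_mul]
    generalize QuotientGroup.mk' Q p = P0, QuotientGroup.mk' Q q = Q0,
      QuotientGroup.mk' Q c = c0 at e1 e2 e3 e4 e5 e6 ⊢
    have a1 : P0 * c0 * P0 = c0⁻¹ := eq_inv_of_mul_eq_one_left (by rw [← e4]; group)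
    have a2 : Q0 * c0 * Q0 = c0⁻¹ := eq_inv_of_mul_eq_one_left (by rw [← e5]; group)
    have a3 : P0 * Q0 * c0 * (P0 * Q0) = c0⁻¹ := eq_inv_of_mul_eq_one_left (by rw [← e6]; group)
    have hQP : P0 * Q0 = Q0 * P0 := by
      rw [eq_inv_of_mul_eq_one_left e3, mul_inv_rev, inv_eq_of_mul_eq_one_right e1,
        inv_eq_of_mul_eq_one_right e2]
    have a4 : c0 = c0⁻¹ := by
      calc c0 = (P0 * P0) * c0 * (P0 * P0) := by rw [e1, one_mul, mul_one]
        _ = P0 * (P0 * c0 * P0) * P0 := by group
        _ = P0 * (Q0 * c0 * Q0) * P0 := by rw [a1, a2]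
        _ = P0 * Q0 * c0 * (Q0 * P0) := by group
        _ = c0⁻¹ := by rw [← hQP, a3]
    exact mul_eq_one_iff_eq_inv.mpr a4
  -- the central case
  have hk : ∀ x y : X, x * y * x⁻¹ * y⁻¹ ∈ V := by
    intro x y
    set δ := x * y * x⁻¹ * y⁻¹ with hδ
    refine S.omega (comm_mem_frattini M.hyp.h2 x y) ?_
    have h1 : x * (y * y) * x⁻¹ = y * y := by
      rw [hcen _ (sq_mem_frattini M.hyp.h2 y) x, mul_inv_cancel_right]
    have h2 : x * (y * y) * x⁻¹ = δ * δ * (y * y) := by
      calc x * (y * y) * x⁻¹ = δ * (y * δ) * y := by rw [hδ]; group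
        _ = _ := by rw [show y * δ = δ * y from hcen _ (comm_mem_frattini M.hyp.h2 x y) y]; group
    exact mul_eq_right.mp (h2.symm.trans h1)
  have hVQ : ∀ v ∈ V, v ∈ Q := fun v hv => by
    obtain ⟨s, hs, hss⟩ := S.exists_root hne hv
    exact (hQ _).mpr ⟨s, hs, hss.symm⟩
  have hK : ∀ z : X, z * z ∈ Q → z ∈ D := by
    intro z hz
    obtain ⟨w, hw, e⟩ := (hQ _).mp hz
    have he : z * w⁻¹ * (z * w⁻¹) = 1 := by
      calc z * w⁻¹ * (z * w⁻¹) = z * (w⁻¹ * z) * w⁻¹ := by group
        _ = z * z * (w * w)⁻¹ := by rw [← hcen _ (inv_mem hw) z]; group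
        _ = 1 := by rw [e, mul_inv_cancel]
    have h := M.le (mem_of_involution M.hyp.hS M.card M.cen M.sq he fun g => hk g _)
    simpa using mul_mem h hw
  have hmul : ∀ y z : X, y * z * (y * z) = y * y * (z * z) * (z * y * z⁻¹ * y⁻¹) := fun y z =>
    mul_sq (hcen _ (comm_mem_frattini M.hyp.h2 z y))
  obtain ⟨x, hx⟩ : ∃ x, x ∉ D := by
    by_contra hall
    push_neg at hall
    exact M.hyp.hna ⟨⟨fun p q => hcen q (hall q) p⟩⟩
  have hxns : ∀ w ∈ D, x * x ≠ w * w := fun w hw e => hx (hK x ((hQ _).mpr ⟨w, hw, e⟩))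
  have hxD : x * x ∈ D := sq_mem_frattini M.hyp.h2 x
  refine M.not_cover hcen hk (x := x) (hK _ ?_) fun y => ?_
  · rw [hmul (x * a x) (a (a x)), hmul x (a x)]
    have hn := S.norm hxD
    rw [map_mul, map_mul] at hn
    have e : x * x * (a x * a x) * (a x * x * (a x)⁻¹ * x⁻¹) * (a (a x) * a (a x)) =
        (x * x * (a x * a x) * (a (a x) * a (a x))) * (a x * x * (a x)⁻¹ * x⁻¹) := by
      rw [mul_assoc, ← hcen _ (comm_mem_frattini M.hyp.h2 _ _) (a (a x) * a (a x)), ← mul_assoc]
    rw [e, hn, one_mul]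
    exact mul_mem (hVQ _ (hk _ _)) (hVQ _ (hk _ _))
  · obtain ⟨w, hw, h⟩ := S.cover hxD hxns (sq_mem_frattini M.hyp.h2 y)
    have key : ∀ g : X, y * y = g * g * (w * w) → g⁻¹ * y ∈ D := by
      intro g e
      refine hK _ ?_
      have h := hmul g (g⁻¹ * y)
      rw [mul_inv_cancel_left, e, mul_assoc (g * g)] at h
      rw [eq_mul_inv_of_mul_eq (mul_left_cancel h).symm]
      exact mul_mem ((hQ _).mpr ⟨w, hw, rfl⟩) (inv_mem (hVQ _ (hk _ _)))
    rcases h with e | e | e | e
    · exact Or.inl (hK y ((hQ _).mpr ⟨w, hw, e⟩))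
    · exact Or.inr (Or.inl (key x e))
    · exact Or.inr (Or.inr (Or.inl (key (a x) (by rw [e, map_mul]))))
    · exact Or.inr (Or.inr (Or.inr (key (a (a x)) (by rw [e, map_mul, map_mul]))))

/-- The moved case gives a special group of order `64` with three involutions. -/
theorem Moved.main (M : Moved A a V) :
    Cfsg.IsSpecial 2 X ∧ Nat.card X = 64 ∧ Nat.card {x : X // orderOf x = 2} = 3 ∧
      ∀ x : X, orderOf x = 2 → x ∈ Subgroup.center X := by
  classical
  have hDV := M.frattini_eq
  have hsqV : ∀ y : X, y * y ∈ V := fun y => hDV ▸ sq_mem_frattini M.hyp.h2 y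
  have hcomV : ∀ x y : X, x * y * x⁻¹ * y⁻¹ ∈ V := fun x y => hDV ▸ comm_mem_frattini M.hyp.h2 x y
  have hcen : ∀ d ∈ frattini X, ∀ g : X, g * d = d * g := fun d hd g => M.cen d (hDV ▸ hd) g
  have hinvol : ∀ y : X, y * y = 1 → y ∈ V := fun y hy =>
    mem_of_involution M.hyp.hS M.card M.cen M.sq hy fun g => hcomV g y
  have hVZ : V ≤ center X := fun v hv => mem_center_iff.mpr (M.cen v hv)
  have hZ : center X ≤ V := by
    intro z hz
    by_contra hzV
    have hzz : z * z ≠ 1 := fun e => hzV (hinvol z e)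
    have hzc : ∀ (θ : MulAut X) (g : X), g * θ z = θ z * g := fun θ g => θ.symm.injective (by
      rw [map_mul, map_mul, MulEquiv.symm_apply_apply]; exact mem_center_iff.mp hz _)
    have hcentral : ∀ y : X, ∀ g : X, g * y = y * g := by
      intro y g
      obtain ⟨w, hwc, hww⟩ : ∃ w : X, (∀ g : X, g * w = w * g) ∧ y * y = w * w := by
        rcases M.cases (hsqV z) hzz (hsqV y) with e | e | e | e
        · exact ⟨1, fun g => by rw [mul_one, one_mul], by rw [e, mul_one]⟩
        · exact ⟨z, hzc 1, e⟩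
        · exact ⟨a z, hzc a, by rw [e, map_mul]⟩
        · exact ⟨a (a z), hzc (a * a), by rw [e, map_mul, map_mul]⟩
      have h1 : y * w⁻¹ * (y * w⁻¹) = 1 := by
        have hc : w⁻¹ * y = y * w⁻¹ := by
          rw [inv_mul_eq_iff_eq_mul, ← mul_assoc, ← hwc y, mul_inv_cancel_right]
        calc y * w⁻¹ * (y * w⁻¹) = y * (w⁻¹ * y) * w⁻¹ := by group
          _ = y * y * (w * w)⁻¹ := by rw [hc]; group
          _ = 1 := by rw [hww, mul_inv_cancel]
      have h2 : ∀ g : X, g * (y * w⁻¹ * w) = (y * w⁻¹ * w) * g := fun g => by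
        rw [← mul_assoc, M.cen _ (hinvol _ h1) g, mul_assoc _ g, hwc g, ← mul_assoc]
      simpa using h2 g
    exact M.hyp.hna ⟨⟨fun p q => hcentral q p⟩⟩
  have hVc : V = center X := le_antisymm hVZ hZ
  refine ⟨⟨M.hyp.h2, hDV.trans hVc, ?_⟩, ?_, ?_, fun x hx => hVZ (hinvol x (by
    rw [← pow_two, ← hx]; exact pow_orderOf_eq_one x))⟩
  · rw [← hVc]
    refine le_antisymm ?_ ?_
    · rw [commutator_def, Subgroup.commutator_le]
      intro x _ y _
      rw [commutatorElement_def]; exact hcomV x y
    · intro v hv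
      obtain ⟨c, hcV, hcC, hc1⟩ : ∃ c ∈ V, c ∈ commutator X ∧ c ≠ 1 := by
        by_contra hno
        push_neg at hno
        refine M.hyp.hna ⟨⟨fun p q => ?_⟩⟩
        have h := hno _ (hcomV p q) (by
          rw [commutator_def, ← commutatorElement_def]
          exact Subgroup.commutator_mem_commutator (mem_top p) (mem_top q))
        rwa [mul_inv_eq_one, mul_inv_eq_iff_eq_mul] at h
      have hchar : ∀ {c : X}, c ∈ commutator X → a c ∈ commutator X := fun hc =>
        (Subgroup.characteristic_iff_le_comap.mp inferInstance a) hc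
      rcases M.cases hcV hc1 hv with rfl | rfl | rfl | rfl
      exacts [one_mem _, hcC, hchar hcC, hchar (hchar hcC)]
  · -- the order
    obtain ⟨k, hk⟩ := IsPGroup.iff_card.mp (M.hyp.h2.to_quotient (frattini X))
    rw [← Subgroup.index_eq_card] at hk
    have hk4 : k ≤ 4 := (Nat.pow_le_pow_iff_right (by norm_num : 1 < 2)).mp
      (hk ▸ index_frattini_le M.hyp.h2 M.hyp.hS)
    have hX : Nat.card X = 4 * 2 ^ k := by
      rw [← hk, ← (frattini X).card_mul_index, hDV, M.card]
    obtain ⟨v, hv, hv1⟩ : ∃ v ∈ V, v ≠ 1 := by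
      have : V ≠ ⊥ := fun e => by have := M.card; rw [e, Subgroup.card_bot] at this; norm_num at this
      obtain ⟨⟨v, hv⟩, h⟩ := Subgroup.ne_bot_iff_exists_ne_one.mp this
      exact ⟨v, hv, fun e => h (Subtype.ext e)⟩
    letI : Fintype X := Fintype.ofFinite X
    let fib : X → Finset X := fun c => Finset.univ.filter fun y => y * y = c
    have hfa : ∀ c, (fib (a c)).card = (fib c).card := fun c => by
      refine Finset.card_bij' (fun y _ => a.symm y) (fun y _ => a y) ?_ ?_ ?_ ?_
      · intro y hy; simp only [fib, Finset.mem_filter, Finset.mem_univ, true_and] at hy ⊢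
        rw [← map_mul, hy, MulEquiv.symm_apply_apply]
      · intro y hy; simp only [fib, Finset.mem_filter, Finset.mem_univ, true_and] at hy ⊢
        rw [← map_mul, hy]
      · intro y _; simp
      · intro y _; simp
    have hf1 : (fib 1).card = 4 := by
      rw [← M.card, Nat.card_eq_fintype_card, Fintype.card_subtype]
      congr 1
      ext y
      simp only [fib, Finset.mem_filter, Finset.mem_univ, true_and]
      exact ⟨hinvol y, M.sq y⟩
    have e1 : a v ≠ 1 := fun e => hv1 (a.injective (e.trans (map_one a).symm))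
    have e2 : a (a v) ≠ 1 := fun e => e1 (a.injective (e.trans (map_one a).symm))
    have hsum : Nat.card X = 4 + 3 * (fib v).card := by
      rw [Nat.card_eq_fintype_card, ← Finset.card_univ,
        Finset.card_eq_sum_card_fiberwise (f := fun y => y * y) (t := {1, v, a v, a (a v)})
          (fun y _ => by
            rcases M.cases hv hv1 (hsqV y) with e | e | e | e <;> simp [e]),
        Finset.sum_insert (by simp [hv1.symm, e1.symm, e2.symm]),
        Finset.sum_insert (by simp [(M.a_ne hv hv1).symm, (M.aa_ne hv hv1).symm]),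
        Finset.sum_insert (by simp [(M.a_ne hv hv1).symm]),
        Finset.sum_singleton]
      show (fib 1).card + ((fib v).card + ((fib (a v)).card + (fib (a (a v))).card)) = _
      rw [hfa (a v), hfa v, hf1]; ring
    interval_cases k
    · exfalso
      norm_num at hk
      exact M.hyp.hna ⟨⟨fun p q => hcen q (hk ▸ mem_top q) p⟩⟩
    · omega
    · exfalso
      have hfv : (fib v).card = 4 := by omega
      obtain ⟨x, hx⟩ : (fib v).Nonempty := Finset.card_pos.mp (by omega)
      simp only [fib, Finset.mem_filter, Finset.mem_univ, true_and] at hx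
      have hcoset : ∀ g : X, g * g = v ∨ g * g = a v ∨ g * g = a (a v) → ∀ y : X, y * y = g * g →
          g⁻¹ * y ∈ frattini X := by
        intro g hg y hy
        have hfg : (fib (g * g)).card = 4 := by
          rcases hg with e | e | e
          · rw [e, hfv]
          · rw [e, hfa, hfv]
          · rw [e, hfa, hfa, hfv]
        have hsub : V.carrier.toFinset.image (fun d => g * d) = fib (g * g) := by
          refine Finset.eq_of_subset_of_card_le ?_ ?_
          · intro z hz
            simp only [Finset.mem_image, Set.mem_toFinset] at hz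
            obtain ⟨d, hd, rfl⟩ := hz
            have hd' : d ∈ V := hd
            simp only [fib, Finset.mem_filter, Finset.mem_univ, true_and]
            calc g * d * (g * d) = g * (d * g) * d := by group
              _ = g * g * (d * d) := by rw [← M.cen d hd' g]; group
              _ = g * g := by rw [M.sq d hd', mul_one]
          · rw [hfg, Finset.card_image_of_injective _ (mul_right_injective g), Set.toFinset_card,
              ← Nat.card_eq_fintype_card]
            exact M.card.ge
        have : y ∈ fib (g * g) := by simp [fib, hy]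
        rw [← hsub] at this
        simp only [Finset.mem_image, Set.mem_toFinset] at this
        obtain ⟨d, hd, rfl⟩ := this
        rw [inv_mul_cancel_left, hDV]; exact hd
      refine M.not_cover hcen hcomV (x := x) ?_ fun y => ?_
      · -- `x · a x` lies in the coset of `a² x`
        have hx' : (x * a x) * (x * a x) ≠ 1 := by
          intro e
          have h1 : a x = x⁻¹ * (x * a x) := by group
          have h2 : a x * a x = x * x := by
            have hd := hinvol _ e
            rw [h1]
            calc x⁻¹ * (x * a x) * (x⁻¹ * (x * a x)) = x⁻¹ * (((x * a x) * x⁻¹) * (x * a x)) := by group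
              _ = x⁻¹ * ((x⁻¹ * (x * a x)) * (x * a x)) := by rw [M.cen _ hd x⁻¹]
              _ = x⁻¹ * x⁻¹ * ((x * a x) * (x * a x)) := by group
              _ = (x * x)⁻¹ := by rw [e, mul_one, mul_inv_rev]
              _ = x * x := M.inv_eq (hsqV x)
          rw [← map_mul, hx] at h2
          exact M.a_ne hv hv1 h2
        rcases M.cases hv hv1 (hsqV (x * a x)) with e | e | e | e
        · exact absurd e hx'
        · exfalso
          have h := hcoset x (Or.inl hx) (x * a x) (e.trans hx.symm)
          rw [inv_mul_cancel_left, hDV] at h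
          have := M.sq _ h
          rw [← map_mul, hx] at this
          exact e1 this
        · exfalso
          have hax : a x * a x = a v := by rw [← map_mul, hx]
          have h := hcoset (a x) (Or.inr (Or.inl hax)) (x * a x) (e.trans hax.symm)
          rw [hDV] at h
          have h3 : x ∈ V := by
            have h4 := M.normal.conj_mem _ h (a x)
            simpa using h4
          exact hv1 (by rw [← hx, M.sq x h3])
        · have haax : a (a x) * a (a x) = a (a v) := by rw [← map_mul, ← map_mul, hx]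
          have h := hcoset (a (a x)) (Or.inr (Or.inr haax)) (x * a x) (e.trans haax.symm)
          rw [hDV] at h ⊢
          have e' : x * a x * a (a x) = a (a x) * ((a (a x))⁻¹ * (x * a x)) * a (a x) := by group
          rw [e', M.cen _ h, mul_assoc]
          exact mul_mem h (hsqV _)
      · rcases M.cases hv hv1 (hsqV y) with e | e | e | e
        · exact Or.inl (hDV ▸ hinvol y e)
        · exact Or.inr (Or.inl (hcoset x (Or.inl hx) y (e.trans hx.symm)))
        · have hax : a x * a x = a v := by rw [← map_mul, hx]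
          exact Or.inr (Or.inr (Or.inl (hcoset _ (Or.inr (Or.inl hax)) y (e.trans hax.symm))))
        · have haax : a (a x) * a (a x) = a (a v) := by rw [← map_mul, ← map_mul, hx]
          exact Or.inr (Or.inr (Or.inr (hcoset _ (Or.inr (Or.inr haax)) y (e.trans haax.symm))))
    · omega
    · omega
  · have e : {x : X // orderOf x = 2} ≃ ((V : Set X) \ {1} : Set X) :=
      Equiv.subtypeEquivRight fun x => ⟨fun hx => ⟨hinvol x (by
          rw [← pow_two, ← hx]; exact pow_orderOf_eq_one x), fun e => by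
          rw [Set.mem_singleton_iff] at e; simp [e] at hx⟩,
        fun hx => orderOf_eq_prime (by rw [pow_two]; exact M.sq x hx.1) hx.2⟩
    rw [Nat.card_congr e, Nat.card_coe_set_eq, Set.ncard_sdiff_singleton_of_mem V.one_mem,
      ← Nat.card_coe_set_eq]
    show Nat.card V - 1 = 3
    rw [M.card]

/-- Either the central involutions of the Frattini subgroup are fixed or the moved setting occurs. -/
theorem fixes_or_moved (H : Hyp A) :
    FixesOmega A ∨ ∃ (a : MulAut X) (V : Subgroup X), Moved A a V := by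
  classical
  by_cases hf : FixesOmega A
  · exact Or.inl hf
  simp only [FixesOmega, not_forall] at hf
  obtain ⟨φ, hφ, z, hzD, hzc, hzz, hne⟩ := hf
  have hn : (frattini X ⊓ center X).Normal := inferInstance
  have hc : ∀ s ∈ frattini X ⊓ center X, ∀ t ∈ frattini X ⊓ center X, s * t = t * s :=
    fun s _ t ht => mem_center_iff.mp (mem_inf.mp ht).2 s
  set V := sqOne (frattini X ⊓ center X) hc
  have hzV : z ∈ V := ⟨mem_inf.mpr ⟨hzD, mem_center_iff.mpr hzc⟩, hzz⟩
  have hφV : ∀ (θ : MulAut X) v, v ∈ V → θ v ∈ V := fun θ v hv =>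
    ⟨mem_inf.mpr ⟨map_frattini θ (mem_inf.mp hv.1).1, mem_center_iff.mpr fun g => θ.symm.injective (by
      rw [map_mul, map_mul, MulEquiv.symm_apply_apply]
      exact mem_center_iff.mp (mem_inf.mp hv.1).2 _)⟩, by rw [← map_mul, hv.2, map_one]⟩
  have hodd := odd_order H.hA hφ
  have hcard : Nat.card V = 4 := by
    have hle := card_sqOne H.hS hn hc
    have hz1 : z ≠ 1 := fun e => hne (by rw [e, map_one])
    have hφz1 : φ z ≠ 1 := fun e => hz1 (φ.injective (e.trans (map_one φ).symm))
    have hφφz : φ (φ z) ≠ z := fun e => hne (fixed_of_swap hodd e)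
    have hφφz1 : φ (φ z) ≠ 1 := fun e => hφz1 (φ.injective (e.trans (map_one φ).symm))
    have hsub : (({1, z, φ z, φ (φ z)} : Finset X) : Set X) ⊆ (V : Set X) := by
      intro x hx
      simp only [Finset.coe_insert, Finset.coe_singleton, Set.mem_insert_iff, Set.mem_singleton_iff] at hx
      rcases hx with rfl | rfl | rfl | rfl
      exacts [one_mem V, hzV, hφV φ z hzV, hφV φ _ (hφV φ z hzV)]
    have h := Set.ncard_le_ncard hsub
    rw [Set.ncard_coe_finset, ← Nat.card_coe_set_eq, Finset.card_insert_of_notMem,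
      Finset.card_insert_of_notMem, Finset.card_insert_of_notMem, Finset.card_singleton] at h
    · exact le_antisymm hle h
    · simp only [Finset.mem_singleton]; exact fun e => hne (φ.injective e.symm)
    · simp only [Finset.mem_insert, Finset.mem_singleton, not_or]
      exact ⟨Ne.symm hne, Ne.symm hφφz⟩
    · simp only [Finset.mem_insert, Finset.mem_singleton, not_or]
      exact ⟨hz1.symm, hφz1.symm, hφφz1.symm⟩
  refine Or.inr ⟨φ, V, ⟨H, hφ, hcard, fun v hv => (mem_inf.mp hv.1).1,
    fun v hv g => mem_center_iff.mp (mem_inf.mp hv.1).2 g, fun v hv => hv.2,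
    fun v hv hvc hvv => ⟨mem_inf.mpr ⟨hv, mem_center_iff.mpr hvc⟩, hvv⟩, fun v hv hvf => ?_⟩⟩
  by_contra hv1
  exact hne (fix_small hodd hcard.le (hφV φ) (fun w hw => hw.2) hv hv1 hvf z hzV)

end CfsgLib.LocalEvenB.NoNormalEight
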